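import Cfsg.Agent.Lib.Signalizer.Involutions
import Cfsg.Agent.Lib.RankThreeInv.Trace

/-!
# Congruences modulo two for algebraic integers
-/

set_option autoImplicit false

namespace CfsgLib.GW.Two.Lin

/-- Congruence modulo twice an algebraic integer. -/
def Cong (z w : ℂ) : Prop := IsIntegral ℤ ((z - w) / 2)

theorem Cong.refl (z : ℂ) : Cong z z := by
  unfold Cong; simpa using isIntegral_zero

theorem Cong.of_eq {z w : ℂ} (h : z = w) : Cong z w := h ▸ Cong.refl z

theorem Cong.symm {z w : ℂ} (h : Cong z w) : Cong w z := by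
  unfold Cong at *; rw [show (w - z) / 2 = -((z - w) / 2) by ring]; exact h.neg

theorem Cong.trans {z w v : ℂ} (h : Cong z w) (h' : Cong w v) : Cong z v := by
  unfold Cong at *; rw [show (z - v) / 2 = (z - w) / 2 + (w - v) / 2 by ring]; exact h.add h'

theorem Cong.add {z w z' w' : ℂ} (h : Cong z w) (h' : Cong z' w') : Cong (z + z') (w + w') := by
  unfold Cong at *; rw [show (z + z' - (w + w')) / 2 = (z - w) / 2 + (z' - w') / 2 by ring]; exact h.add h'

theorem Cong.mul_left {z w : ℂ} (h : Cong z w) {c : ℂ} (hc : IsIntegral ℤ c) :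
    Cong (c * z) (c * w) := by
  unfold Cong at *; rw [show (c * z - c * w) / 2 = c * ((z - w) / 2) by ring]; exact hc.mul h

theorem Cong.mul_right {z w : ℂ} (h : Cong z w) {c : ℂ} (hc : IsIntegral ℤ c) :
    Cong (z * c) (w * c) := by
  unfold Cong at *; rw [show (z * c - w * c) / 2 = (z - w) / 2 * c by ring]; exact h.mul hc

theorem Cong.sum {ι : Type*} (s : Finset ι) {f g : ι → ℂ} (h : ∀ i ∈ s, Cong (f i) (g i)) :
    Cong (∑ i ∈ s, f i) (∑ i ∈ s, g i) := by
  induction s using Finset.cons_induction with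
  | empty => simpa using Cong.refl 0
  | cons a s ha ih =>
    rw [Finset.sum_cons, Finset.sum_cons]
    exact (h a (Finset.mem_cons_self _ _)).add (ih fun i hi => h i (Finset.mem_cons_of_mem hi))

theorem cong_intCast {a b : ℤ} : Cong (a : ℂ) b ↔ (2 : ℤ) ∣ a - b := by
  constructor
  · intro h
    unfold Cong at h
    obtain ⟨z, hz⟩ := CfsgLib.RankThreeInv.exists_int_of_isIntegral (q := ((a - b : ℤ) : ℚ) / 2)
      (by convert h using 1; push_cast; ring)
    exact ⟨z, by exact_mod_cast (by linarith : ((a - b : ℤ) : ℚ) = 2 * z)⟩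
  · rintro ⟨z, hz⟩
    unfold Cong
    rw [← Int.cast_sub, hz]
    convert isIntegral_algebraMap (R := ℤ) (A := ℂ) (x := z) using 1
    rw [algebraMap_int_eq, Int.coe_castRingHom]
    push_cast; ring

theorem not_cong_one_zero : ¬ Cong 1 0 := by
  intro h
  have := (cong_intCast (a := 1) (b := 0)).1 (by simpa using h)
  norm_num at this

theorem cong_odd_mul {k : ℕ} (hk : Odd k) {z : ℂ} (hz : IsIntegral ℤ z) : Cong ((k : ℂ) * z) z := by
  have h : Cong ((k : ℤ) : ℂ) ((1 : ℤ) : ℂ) := cong_intCast.2 (by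
    obtain ⟨j, rfl⟩ := hk; exact ⟨j, by push_cast; ring⟩)
  simpa using h.mul_right hz

theorem eq_one_of_sq {G : Type*} [Group G] {x : G} (ho : Odd (orderOf x)) (h : x * x = 1) : x = 1 :=
  orderOf_eq_one_iff.1 (Nat.eq_one_of_dvd_coprimes (Nat.coprime_two_right.2 ho) dvd_rfl
    (orderOf_dvd_of_pow_eq_one (by rw [pow_two]; exact h)))

/-- An involutive permutation pairs off the points it moves. -/
theorem cong_sum_fixed {ι : Type*} [DecidableEq ι] (s : Finset ι) (σ : ι → ι)
    (hσ : ∀ i ∈ s, σ i ∈ s) (hinv : ∀ i ∈ s, σ (σ i) = i) {F : ι → ℂ}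
    (hF : ∀ i ∈ s, IsIntegral ℤ (F i)) (heq : ∀ i ∈ s, F (σ i) = F i) :
    Cong (∑ i ∈ s, F i) (∑ i ∈ s.filter (fun i => σ i = i), F i) := by
  classical
  unfold Cong
  rw [← Finset.sum_filter_add_sum_filter_not s (fun i => σ i = i) F, add_sub_cancel_left]
  let E : AddSubgroup ℂ :=
    { carrier := {z | IsIntegral ℤ (z / 2)}
      zero_mem' := by simpa using isIntegral_zero
      add_mem' := fun {a b} ha hb => by
        show IsIntegral ℤ ((a + b) / 2)
        rw [add_div]; exact ha.add hb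
      neg_mem' := fun {a} ha => by
        show IsIntegral ℤ (-a / 2)
        rw [neg_div]; exact ha.neg }
  show (∑ i ∈ s.filter (fun i => ¬ σ i = i), F i) ∈ E
  rw [← QuotientAddGroup.eq_zero_iff]
  change QuotientAddGroup.mk' E (∑ i ∈ s.filter (fun i => ¬ σ i = i), F i) = 0
  rw [map_sum]
  refine Finset.sum_involution (fun i _ => σ i) (fun i hi => ?_) (fun i hi _ => ?_) (fun i hi => ?_)
    (fun i hi => hinv i (Finset.mem_filter.1 hi).1)
  · obtain ⟨his, -⟩ := Finset.mem_filter.1 hi
    rw [heq i his, ← map_add]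
    refine (QuotientAddGroup.eq_zero_iff _).2 ?_
    show IsIntegral ℤ ((F i + F i) / 2)
    rw [add_self_div_two]; exact hF i his
  · exact (Finset.mem_filter.1 hi).2
  · obtain ⟨his, hne⟩ := Finset.mem_filter.1 hi
    refine Finset.mem_filter.2 ⟨hσ i his, fun e => hne ?_⟩
    rw [hinv i his] at e
    exact e.symm

end CfsgLib.GW.Two.Lin
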