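import Cfsg.Agent.Lib.GW.Two.Linear.Mult
import Cfsg.Agent.Lib.Char.Coherence.TISylowConst
import Cfsg.Agent.Lib.Char.Realize
import Cfsg.Agent.Lib.CharDegree.Basic

/-!
# Signed multiplicities modulo two
-/

set_option autoImplicit false

namespace CfsgLib.GW.Two.Lin

open Subgroup Cfsg CfsgLib.Char CfsgLib.CharAction CfsgLib.Blocks
open scoped ComplexConjugate Classical
open CfsgLib.Signalizer (involution_sq involution_inv involution_ne_one orderOf_conj)

universe v

namespace Kl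

variable {G : Type v} [Group G] [Fintype G] (K : Kl G) [Fintype (IrrCharacter G)]

theorem isIntegral_irr (χ : IrrCharacter G) (g : G) : IsIntegral ℤ ((χ : G → ℂ) g) :=
  IsChar.isIntegral (IsIrr.isCharacter χ.2) g

theorem isIntegral_conj_lin (l : K.U →* ℂˣ) (y : K.U) : IsIntegral ℤ (conj (l y : ℂ)) := by
  rw [← K.lin_apply, ← IsIrr.map_inv (K.lin l).2]
  exact IsChar.isIntegral (IsIrr.isCharacter (K.lin l).2) _

theorem conjU_eq_iff {y : K.U} : K.conjU y = y ↔ (y : G) ∈ K.D := by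
  constructor
  · intro h
    refine ⟨y.2, mem_centralizer_singleton_iff.2 ?_⟩
    exact (mul_inv_eq_iff_eq_mul.1 (congrArg Subtype.val h)).symm
  · intro h
    refine Subtype.ext (mul_inv_eq_iff_eq_mul.2 ?_)
    exact (mem_centralizer_singleton_iff.1 h.2).symm

/-- A `u`-invariant sum over `U` is congruent to the sum over `D`. -/
theorem cong_sum_D {F : K.U → ℂ} (hF : ∀ y, IsIntegral ℤ (F y)) (h : ∀ y, F (K.conjU y) = F y) :
    Cong (∑ y : K.U, F y) (∑ d : K.D, F ⟨d, d.2.1⟩) := by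
  refine (cong_sum_fixed Finset.univ K.conjU (fun _ _ => Finset.mem_univ _) (fun y _ => K.conjU_conjU y)
    (fun y _ => hF y) fun y _ => h y).trans (Cong.of_eq ?_)
  exact Finset.sum_bij' (fun y hy => ⟨y, K.conjU_eq_iff.1 (Finset.mem_filter.1 hy).2⟩)
    (fun d _ => ⟨d, d.2.1⟩) (fun _ _ => Finset.mem_univ _)
    (fun d _ => Finset.mem_filter.2 ⟨Finset.mem_univ _, K.conjU_eq_iff.2 d.2⟩)
    (fun _ _ => rfl) (fun _ _ => rfl) (fun _ _ => rfl)

/-- The weight of `l` in a character on `D`. -/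
noncomputable def wD (χ : IrrCharacter G) (l : K.U →* ℂˣ) : ℂ :=
  ∑ d : K.D, (χ : G → ℂ) d * conj (l ⟨d, d.2.1⟩ : ℂ)

theorem cong_mi_lin {l : K.U →* ℂˣ} (hl : K.Fix l) (χ : IrrCharacter G) :
    Cong (K.mi χ (K.lin l) : ℂ) (K.wD χ l) := by
  have hn : IsIntegral ℤ (classInner (fun y : K.U => (χ : G → ℂ) y) (K.lin l : K.U → ℂ)) := by
    rw [K.ni_eq]
    exact isIntegral_algebraMap (R := ℤ) (A := ℂ) (x := ((K.pos χ (K.lin l) + K.neg χ (K.lin l) : ℕ) : ℤ))
      |> fun h => by simpa using h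
  refine ((K.cong_mi_ni χ _).trans (cong_odd_mul K.hUodd hn).symm).trans ?_
  rw [classInner, mul_inv_cancel_left₀ (Nat.cast_ne_zero.2 Nat.card_pos.ne')]
  refine K.cong_sum_D (fun y => (isIntegral_irr χ _).mul ?_) fun y => ?_
  · rw [K.lin_apply]; exact K.isIntegral_conj_lin l y
  · rw [K.lin_apply, K.lin_apply, hl y]
    congr 1
    exact IsIrr.isClassFunction χ.2 _ _

theorem mi_odd_iff (χ : IrrCharacter G) (θ : IrrCharacter K.U) :
    K.mi χ θ ≠ 0 ↔ ¬ Cong (K.mi χ θ : ℂ) 0 := by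
  have h0 : ((0 : ℤ) : ℂ) = 0 := Int.cast_zero
  rw [← h0, cong_intCast]
  rcases K.mi_cases χ θ with h | h | h <;> simp [h]

variable {g : G} (hgt : g * K.t * g⁻¹ = K.u) (hgu : g * K.u * g⁻¹ = K.t * K.u)
include hgt hgu

/-- `l'` restricts to the image of `l|D` under the rotation. -/
theorem supp_rot {l l' : K.U →* ℂˣ} (hl : K.Fix l) (hl' : K.Fix l')
    (h : ∀ y y' : K.U, (y : G) ∈ K.D → (y' : G) = g * y * g⁻¹ → l' y = l y')
    : K.supp (K.lin l') = K.supp (K.lin l) := by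
  have hw : ∀ χ, K.wD χ l' = K.wD χ l := fun χ => by
    let f : K.D → K.D := fun d => ⟨g * d * g⁻¹, K.conj_g_mem hgt hgu d.2⟩
    refine Fintype.sum_bijective f (Finite.injective_iff_bijective.1 fun a b e =>
      Subtype.ext (mul_left_cancel (mul_right_cancel (congrArg Subtype.val e)))) _ _ fun d => ?_
    rw [IsIrr.isClassFunction χ.2 (d : G) g, h ⟨d, d.2.1⟩ ⟨_, (f d).2.1⟩ d.2 rfl]
  ext χ
  rw [K.mem_supp, K.mem_supp, K.mi_odd_iff, K.mi_odd_iff]
  exact not_congr ⟨fun h' => (K.cong_mi_lin hl χ).trans (hw χ ▸ (K.cong_mi_lin hl' χ).symm.trans h'),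
    fun h' => (K.cong_mi_lin hl' χ).trans ((hw χ).symm ▸ (K.cong_mi_lin hl χ).symm.trans h')⟩

/-- A linear character constant on rotated elements is constant on the fusion classes of `D`. -/
theorem apply_eq_of_isConj {l : K.U →* ℂˣ}
    (h : ∀ y y' : K.U, (y : G) ∈ K.D → (y' : G) = g * y * g⁻¹ → l y = l y')
    {y y' : K.U} (hy : (y : G) ∈ K.D) (hy' : (y' : G) ∈ K.D) (hc : IsConj (y : G) y') :
    l y' = l y := by
  obtain ⟨i, d, hd, e⟩ := K.fusion hgt hgu hy hy' hc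
  have hz : d * (y : G) * d⁻¹ ∈ K.D := mul_mem (mul_mem hd hy) (inv_mem hd)
  have h1 : l ⟨_, hz.1⟩ = l y := by
    rw [show (⟨_, hz.1⟩ : K.U) = ⟨d, hd.1⟩ * y * (⟨d, hd.1⟩)⁻¹ from Subtype.ext rfl, map_mul, map_mul,
      map_inv, mul_comm (l _) (l y), mul_inv_cancel_right]
  suffices ∀ (i : ℕ) (z : K.U), (z : G) ∈ K.D → ∀ z' : K.U, (z' : G) = g ^ i * z * (g ^ i)⁻¹ →
      (z' : G) ∈ K.D ∧ l z' = l z from (this i ⟨_, hz.1⟩ hz y' e).2.trans h1
  intro i
  induction i with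
  | zero =>
    intro z hz z' e'
    obtain rfl : z' = z := Subtype.ext (by simpa using e')
    exact ⟨hz, rfl⟩
  | succ i ih =>
    intro z hz z' e'
    have hzg := K.conj_g_mem hgt hgu hz
    obtain ⟨h2, h3⟩ := ih ⟨_, hzg.1⟩ hzg z'
      (by rw [e', pow_succ]; show _ = g ^ i * (g * z * g⁻¹) * (g ^ i)⁻¹; group)
    exact ⟨h2, h3.trans (h z ⟨_, hzg.1⟩ hz rfl).symm⟩

omit hgt hgu in
/-- The central character at `a` read on `U`. -/
theorem cong_central (χ : IrrCharacter G) (θ : IrrCharacter K.U) (hθ : K.mi χ θ ≠ 0) (a : G)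
    (ha : Odd (orderOf a)) :
    Cong ((θ : K.U → ℂ) 1 * centralChar (χ : G → ℂ) a)
      (∑ k ∈ Finset.univ.filter (fun k : K.U => IsConj a k), (θ : K.U → ℂ) k) := by
  set ω := centralChar (χ : G → ℂ) a with hω
  set A := Finset.univ.filter (fun k : K.U => IsConj a k) with hA
  have hωi : IsIntegral ℤ ω := CfsgLib.CharDegree.isIntegral_centralChar χ a
  set Cl := Finset.univ.image (fun x : G => x * a * x⁻¹) with hCl
  have hsum : ∀ b : K.U, ω * (χ : G → ℂ) b = ∑ k ∈ Cl, (χ : G → ℂ) (k * (b : G)) := by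
    intro b
    have h1 := CfsgLib.CharDegree.sum_conj_mul χ a (b : G)
    have h2 := CfsgLib.Coh.sum_conj_eq (⊤ : Subgroup G) a (fun z => (χ : G → ℂ) (z * (b : G)))
    rw [top_inf_eq, ← Equiv.sum_comp Subgroup.topEquiv.symm.toEquiv] at h2
    have h3 : Finset.univ.image (fun x : (⊤ : Subgroup G) => (x : G) * a * (x : G)⁻¹) = Cl := by
      ext z; simp [hCl]
    rw [h3] at h2
    have h4 := h1.symm.trans h2
    have hc0 : (Nat.card (centralizer ({a} : Set G)) : ℂ) ≠ 0 := Nat.cast_ne_zero.2 Nat.card_pos.ne'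
    refine mul_left_cancel₀ hc0 (Eq.trans ?_ h4)
    rw [hω, centralChar, ← (centralizer ({a} : Set G)).card_mul_index, Nat.cast_mul]
    field_simp [Char.IsIrr.apply_one_ne_zero χ.2]
  have hpair : ∀ b : K.U, Cong (ω * (χ : G → ℂ) b) (∑ k ∈ A, (χ : G → ℂ) ((k : G) * b)) := by
    intro b
    rw [hsum b]
    refine (cong_sum_fixed Cl (fun k => K.t * k * K.t⁻¹) ?_ ?_ (fun k _ => isIntegral_irr χ _) ?_).trans
      (Cong.of_eq ?_)
    · intro k hk
      obtain ⟨x, -, rfl⟩ := Finset.mem_image.1 hk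
      exact Finset.mem_image.2 ⟨K.t * x, Finset.mem_univ _, by group⟩
    · intro k _
      rw [involution_inv K.ht, show K.t * (K.t * k * K.t) * K.t = K.t * K.t * k * (K.t * K.t) by group,
        involution_sq K.ht, one_mul, mul_one]
    · intro k _
      rw [show K.t * k * K.t⁻¹ * (b : G) = K.t * (k * b) * K.t⁻¹ by
        rw [mul_assoc (K.t * k), (K.comm_U b.2).inv_right.eq.symm]; group]
      exact IsIrr.isClassFunction χ.2 _ _
    · refine Finset.sum_bij' (fun k hk => ⟨k, ?_⟩) (fun k _ => (k : G)) ?_ ?_ (fun _ _ => rfl)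
        (fun _ _ => rfl) (fun _ _ => rfl)
      · obtain ⟨hk, hkt⟩ := Finset.mem_filter.1 hk
        obtain ⟨x, -, rfl⟩ := Finset.mem_image.1 hk
        exact K.hUmax _ (mul_inv_eq_iff_eq_mul.1 hkt).symm (by rwa [orderOf_conj])
      · intro k hk
        obtain ⟨hk, -⟩ := Finset.mem_filter.1 hk
        obtain ⟨x, -, rfl⟩ := Finset.mem_image.1 hk
        exact Finset.mem_filter.2 ⟨Finset.mem_univ _, isConj_iff.2 ⟨x, rfl⟩⟩
      · intro k hk
        obtain ⟨x, hx⟩ := isConj_iff.1 (Finset.mem_filter.1 hk).2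
        exact Finset.mem_filter.2 ⟨Finset.mem_image.2 ⟨x, Finset.mem_univ _, hx⟩,
          mul_inv_eq_iff_eq_mul.2 (K.comm_U k.2).eq.symm⟩
  set N : ℂ := (Nat.card K.U : ℂ) * ((K.pos χ θ + K.neg χ θ : ℕ) : ℂ) with hN
  have hNodd : Odd (Nat.card K.U * (K.pos χ θ + K.neg χ θ)) := by
    refine K.hUodd.mul ?_
    rw [Nat.odd_iff]
    rcases K.mi_cases χ θ with h | h | h
    · exact absurd h hθ
    all_goals (rw [mi] at h; omega)
  have hθi : ∀ y : K.U, IsIntegral ℤ ((θ : K.U → ℂ) y) := fun y =>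
    IsChar.isIntegral (IsIrr.isCharacter θ.2) y
  have hb := Cong.sum Finset.univ fun (b : K.U) _ => (hpair b).mul_right (c := (θ : K.U → ℂ) b⁻¹) (hθi _)
  have hL : ∑ b : K.U, ω * (χ : G → ℂ) b * (θ : K.U → ℂ) b⁻¹ = ω * N := by
    rw [hN, ← K.ni_eq, classInner, mul_inv_cancel_left₀ (Nat.cast_ne_zero.2 Nat.card_pos.ne'),
      Finset.mul_sum]
    exact Finset.sum_congr rfl fun b _ => by rw [IsIrr.map_inv θ.2, mul_assoc]
  have hR : ∀ k : K.U, (θ : K.U → ℂ) 1 * ∑ b : K.U, (χ : G → ℂ) ((k : G) * b) * (θ : K.U → ℂ) b⁻¹ =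
      N * (θ : K.U → ℂ) k := by
    intro k
    rw [Fintype.sum_equiv (Equiv.mulLeft k) (fun b : K.U => (χ : G → ℂ) ((k : G) * b) * (θ : K.U → ℂ) b⁻¹)
      (fun z : K.U => (χ : G → ℂ) z * (θ : K.U → ℂ) (z⁻¹ * k)) fun b => ?_,
      CfsgLib.Realize.sum_inv_mul_apply (θ := fun y : K.U => (χ : G → ℂ) y)
        (IsChar.restrict K.U (IsIrr.isCharacter χ.2)) θ k, hN, ← K.ni_eq]
    · field_simp [Char.IsIrr.apply_one_ne_zero θ.2]
    · simp [mul_assoc]
  rw [hL] at hb
  simp only [Finset.sum_mul] at hb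
  rw [Finset.sum_comm] at hb
  have h5 := hb.mul_left (hθi 1)
  rw [Finset.mul_sum, Finset.sum_congr rfl fun k _ => hR k, ← Finset.mul_sum] at h5
  have hNc : N = ((Nat.card K.U * (K.pos χ θ + K.neg χ θ) : ℕ) : ℂ) := by rw [hN]; push_cast; rfl
  have hgoal1 := cong_odd_mul hNodd ((hθi 1).mul hωi)
  have hgoal2 := cong_odd_mul hNodd (IsIntegral.sum (fun k : K.U => (θ : K.U → ℂ) k) (s := A) fun k _ => hθi k)
  rw [← hNc] at hgoal1 hgoal2
  rw [show (θ : K.U → ℂ) 1 * (ω * N) = N * ((θ : K.U → ℂ) 1 * ω) by ring] at h5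
  exact hgoal1.symm.trans (h5.trans hgoal2)

/-- A fixed character sharing a constituent with a rotation-fixed linear one is that character. -/
theorem eq_lin_of_fixed {l : K.U →* ℂˣ} (hl : K.Fix l)
    (h : ∀ y y' : K.U, (y : G) ∈ K.D → (y' : G) = g * y * g⁻¹ → l y = l y')
    (χ : IrrCharacter G) (hχ : K.mi χ (K.lin l) ≠ 0) (θ : IrrCharacter K.U) (hθ : K.tw θ = θ)
    (hmi : K.mi χ θ ≠ 0) : θ = K.lin l := by
  by_contra hne
  have hθi : ∀ y : K.U, IsIntegral ℤ ((θ : K.U → ℂ) y) := fun y =>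
    IsChar.isIntegral (IsIrr.isCharacter θ.2) y
  have hli : ∀ y : K.U, IsIntegral ℤ ((K.lin l : K.U → ℂ) y) := fun y =>
    IsChar.isIntegral (IsIrr.isCharacter (K.lin l).2) y
  have hinv : ∀ y, (θ : K.U → ℂ) (K.conjU y) = (θ : K.U → ℂ) y := fun y => by
    conv_rhs => rw [← hθ]
    rfl
  -- the weighted sum over `D`, by orthogonality on `U`
  set Φ : K.D → ℂ := fun d => (θ : K.U → ℂ) ⟨d, d.2.1⟩ * conj (l ⟨d, d.2.1⟩ : ℂ) with hΦ
  have hzero : Cong (∑ d : K.D, Φ d) 0 := by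
    refine (K.cong_sum_D (F := fun y => (θ : K.U → ℂ) y * conj (l y : ℂ))
      (fun y => (hθi y).mul (K.isIntegral_conj_lin l y))
      fun y => by simp only [hinv, hl y]).symm.trans ?_
    have h0 := classInner_irr_of_ne hne
    rw [classInner, mul_eq_zero, or_iff_right (inv_ne_zero (Nat.cast_ne_zero.2 Nat.card_pos.ne'))] at h0
    simp only [K.lin_apply] at h0
    rw [h0]
    exact Cong.refl 0
  set d₁ := charDegree (θ : K.U → ℂ) with hd₁
  have hd₁odd : Odd d₁ :=
    K.hUodd.of_dvd_nat (CfsgLib.CharDegree.charDegree_dvd_card θ)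
  have hd₁odd' : Odd (d₁ * Nat.card K.D) :=
    hd₁odd.mul (K.hUodd.of_dvd_nat (Subgroup.card_dvd_of_le inf_le_left))
  -- the same sum class by class
  have hclass : ∀ a : K.D, Cong
      (∑ k ∈ Finset.univ.filter (fun k : K.D => IsConj (a : G) k), Φ k)
      (∑ _k ∈ Finset.univ.filter (fun k : K.D => IsConj (a : G) k), (d₁ : ℂ)) := by
    intro a
    set a' : K.U := ⟨a, a.2.1⟩ with ha'
    have haodd : Odd (orderOf (a : G)) := K.odd_of_mem a.2.1
    have hfilt : ∀ F : K.U → ℂ, (∀ y, IsIntegral ℤ (F y)) → (∀ y, F (K.conjU y) = F y) →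
        Cong (∑ k ∈ Finset.univ.filter (fun k : K.U => IsConj (a : G) k), F k)
          (∑ k ∈ Finset.univ.filter (fun k : K.D => IsConj (a : G) k), F ⟨k, k.2.1⟩) := by
      intro F hF hFc
      rw [Finset.sum_filter, Finset.sum_filter]
      refine K.cong_sum_D (F := fun k : K.U => if IsConj (a : G) k then F k else 0) (fun y => ?_)
        fun y => ?_
      · split
        · exact hF y
        · exact isIntegral_zero
      · have hiff : IsConj (a : G) (K.conjU y : G) ↔ IsConj (a : G) y :=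
          ⟨fun hc => hc.trans (isConj_iff.2 ⟨K.u⁻¹, by show _ * (K.u * (y : G) * K.u⁻¹) * _ = _; group⟩),
            fun hc => hc.trans (isConj_iff.2 ⟨K.u, rfl⟩)⟩
        simp only [hiff, hFc]
    have h1 := (K.cong_central χ θ hmi a haodd).trans (hfilt _ hθi hinv)
    have h2 := (K.cong_central χ (K.lin l) hχ a haodd).trans (hfilt _ hli fun y => by
      rw [K.lin_apply, K.lin_apply, hl y])
    rw [K.lin_apply, map_one, Units.val_one, one_mul] at h2
    have hlk : ∀ k ∈ Finset.univ.filter (fun k : K.D => IsConj (a : G) k),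
        (l ⟨k, k.2.1⟩ : ℂ) = (l a' : ℂ) := fun k hk => by
      rw [K.apply_eq_of_isConj hgt hgu h (y := a') (y' := ⟨k, k.2.1⟩) a.2 k.2
        (Finset.mem_filter.1 hk).2]
    simp only [K.lin_apply] at h2
    rw [Finset.sum_congr rfl hlk] at h2
    have h3 := ((h1.symm.trans (h2.mul_left (hθi 1))).mul_right (K.isIntegral_conj_lin l a'))
    have hunit : (l a' : ℂ) * conj (l a' : ℂ) = 1 := by
      rw [← K.lin_apply, ← IsIrr.map_inv (K.lin l).2, K.lin_apply, K.lin_apply, ← Units.val_mul,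
        ← map_mul, mul_inv_cancel, map_one, Units.val_one]
    rw [Finset.sum_mul, Finset.mul_sum, Finset.sum_mul] at h3
    refine (Cong.of_eq (Finset.sum_congr rfl fun k hk => ?_)).trans
      (h3.trans (Cong.of_eq (Finset.sum_congr rfl fun k _ => ?_)))
    · show _ * conj (l ⟨k, k.2.1⟩ : ℂ) = _
      rw [hlk k hk]
    · rw [mul_assoc, hunit, mul_one, apply_one_eq_charDegree]
  have htot : Cong (∑ d : K.D, Φ d) (∑ _d : K.D, (d₁ : ℂ)) := by
    rw [← Finset.sum_fiberwise_of_maps_to (g := fun d : K.D => ConjClasses.mk (d : G))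
        (t := Finset.univ.image fun d : K.D => ConjClasses.mk (d : G))
        (fun d _ => Finset.mem_image_of_mem _ (Finset.mem_univ d)) Φ,
      ← Finset.sum_fiberwise_of_maps_to (g := fun d : K.D => ConjClasses.mk (d : G))
        (t := Finset.univ.image fun d : K.D => ConjClasses.mk (d : G))
        (fun d _ => Finset.mem_image_of_mem _ (Finset.mem_univ d)) fun _ : K.D => (d₁ : ℂ)]
    refine Cong.sum _ fun c hc => ?_
    obtain ⟨a, -, rfl⟩ := Finset.mem_image.1 hc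
    have : Finset.univ.filter (fun d : K.D => ConjClasses.mk (d : G) = ConjClasses.mk (a : G)) =
        Finset.univ.filter (fun k : K.D => IsConj (a : G) k) :=
      Finset.filter_congr fun d _ => ConjClasses.mk_eq_mk_iff_isConj.trans isConj_comm
    rw [this]
    exact hclass a
  rw [Finset.sum_const, Finset.card_univ, ← Nat.card_eq_fintype_card, nsmul_eq_mul, ← Nat.cast_mul,
    mul_comm] at htot
  have hone : Cong ((d₁ * Nat.card K.D : ℕ) : ℂ) 1 := by
    simpa using cong_odd_mul hd₁odd' (isIntegral_one (R := ℤ) (B := ℂ))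
  exact not_cong_one_zero (hone.symm.trans (htot.symm.trans hzero))

end Kl

end CfsgLib.GW.Two.Lin
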