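import Cfsg.Agent.Lib.GW.Two.Linear.Count
import Mathlib.LinearAlgebra.Matrix.NonsingularInverse

/-!
# The characters meeting a linear character on the section of `t`
-/

set_option autoImplicit false

namespace CfsgLib.GW.Two.Lin

open Subgroup Cfsg CfsgLib.Char CfsgLib.CharAction CfsgLib.Blocks
open scoped ComplexConjugate Classical

universe v

/-- A vector orthogonal to three orthogonal sign vectors of length four is a multiple of their product. -/
theorem sign_vectors {ι : Type*} (X : Finset ι) (hX : X.card = 4) (a b c : ι → ℤ) (v : ι → ℚ)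
    (ha : ∀ i ∈ X, a i = 1 ∨ a i = -1) (hb : ∀ i ∈ X, b i = 1 ∨ b i = -1)
    (hc : ∀ i ∈ X, c i = 1 ∨ c i = -1) (hab : ∑ i ∈ X, a i * b i = 0)
    (hac : ∑ i ∈ X, a i * c i = 0) (hbc : ∑ i ∈ X, b i * c i = 0)
    (hva : ∑ i ∈ X, v i * a i = 0) (hvb : ∑ i ∈ X, v i * b i = 0)
    (hvc : ∑ i ∈ X, v i * c i = 0) {i j : ι} (hi : i ∈ X) (hj : j ∈ X) :
    v i * (a i * b i * c i : ℤ) = v j * (a j * b j * c j : ℤ) := by
  let e : Fin 4 ≃ X := (finCongr hX.symm).trans X.equivFin.symm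
  have hsum : ∀ f : ι → ℚ, ∑ i ∈ X, f i = f (e 0) + f (e 1) + f (e 2) + f (e 3) := fun f => by
    rw [← Finset.sum_coe_sort X f, ← e.sum_comp fun x : X => f x, Fin.sum_univ_four]
  let r : Fin 4 → ι → ℚ := ![fun k => (a k : ℚ), fun k => (b k : ℚ), fun k => (c k : ℚ),
    fun k => (a k : ℚ) * b k * c k]
  let H : Matrix (Fin 4) (Fin 4) ℚ := fun p q => r p (e q)
  have hsq : ∀ {x : ℤ}, x = 1 ∨ x = -1 → x * x = 1 := by rintro x (rfl | rfl) <;> rfl
  have hcastsq : ∀ {x : ℤ}, x = 1 ∨ x = -1 → (x : ℚ) * x = 1 := fun h => by exact_mod_cast hsq h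
  have hq : ∀ {f : ι → ℤ}, ∑ i ∈ X, f i = 0 →
      (f (e 0) : ℚ) + f (e 1) + f (e 2) + f (e 3) = 0 := fun {f} h => by
    rw [← hsum fun k => (f k : ℚ), ← Int.cast_sum, h, Int.cast_zero]
  have eab := hq hab
  have eac := hq hac
  have ebc := hq hbc
  push_cast at eab eac ebc
  have A := fun k => hcastsq (ha (e k) (e k).2)
  have B := fun k => hcastsq (hb (e k) (e k).2)
  have C := fun k => hcastsq (hc (e k) (e k).2)
  have ea : ∀ k : Fin 4, (a (e k) : ℚ) * ((a (e k) : ℚ) * b (e k) * c (e k)) = b (e k) * c (e k) :=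
    fun k => by linear_combination (b (e k) * c (e k) : ℚ) * A k
  have eb : ∀ k, (b (e k) : ℚ) * ((a (e k) : ℚ) * b (e k) * c (e k)) = a (e k) * c (e k) :=
    fun k => by linear_combination (a (e k) * c (e k) : ℚ) * B k
  have ec : ∀ k, (c (e k) : ℚ) * ((a (e k) : ℚ) * b (e k) * c (e k)) = a (e k) * b (e k) :=
    fun k => by linear_combination (a (e k) * b (e k) : ℚ) * C k
  have ew : ∀ k, ((a (e k) : ℚ) * b (e k) * c (e k)) * ((a (e k) : ℚ) * b (e k) * c (e k)) = 1 :=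
    fun k => by
      rcases ha (e k) (e k).2 with h | h <;> rcases hb (e k) (e k).2 with h' | h' <;>
        rcases hc (e k) (e k).2 with h'' | h'' <;> simp [h, h', h'']
  have hentry : ∀ p q, r p (e 0) * r q (e 0) + r p (e 1) * r q (e 1) + r p (e 2) * r q (e 2) +
      r p (e 3) * r q (e 3) = if p = q then 4 else 0 := by
    intro p q
    fin_cases p <;> fin_cases q
    · simp [r]; linear_combination A 0 + A 1 + A 2 + A 3
    · simp [r]; linear_combination eab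
    · simp [r]; linear_combination eac
    · simp [r]; linear_combination ea 0 + ea 1 + ea 2 + ea 3 + ebc
    · simp [r]; linear_combination eab
    · simp [r]; linear_combination B 0 + B 1 + B 2 + B 3
    · simp [r]; linear_combination ebc
    · simp [r]; linear_combination eb 0 + eb 1 + eb 2 + eb 3 + eac
    · simp [r]; linear_combination eac
    · simp [r]; linear_combination ebc
    · simp [r]; linear_combination C 0 + C 1 + C 2 + C 3
    · simp [r]; linear_combination ec 0 + ec 1 + ec 2 + ec 3 + eab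
    · simp [r]; linear_combination ea 0 + ea 1 + ea 2 + ea 3 + ebc
    · simp [r]; linear_combination eb 0 + eb 1 + eb 2 + eb 3 + eac
    · simp [r]; linear_combination ec 0 + ec 1 + ec 2 + ec 3 + eab
    · simp [r]; linear_combination ew 0 + ew 1 + ew 2 + ew 3
  have hHH : H * ((1 / 4 : ℚ) • H.transpose) = 1 := by
    rw [Matrix.mul_smul]
    ext p q
    simp only [Matrix.smul_apply, Matrix.mul_apply, Matrix.transpose_apply, Fin.sum_univ_four,
      Matrix.one_apply, smul_eq_mul]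
    show (1 / 4 : ℚ) * (r p (e 0) * r q (e 0) + r p (e 1) * r q (e 1) + r p (e 2) * r q (e 2) +
      r p (e 3) * r q (e 3)) = _
    rw [hentry]
    split_ifs <;> norm_num
  have hHH' := mul_eq_one_comm.1 hHH
  rw [Matrix.smul_mul] at hHH'
  let V : Fin 4 → ℚ := fun q => v (e q)
  have hrow : ∀ f : ι → ℤ, ∑ i ∈ X, v i * f i = 0 →
      (f (e 0) : ℚ) * v (e 0) + f (e 1) * v (e 1) + f (e 2) * v (e 2) + f (e 3) * v (e 3) = 0 :=
    fun f h => by
      rw [hsum fun k => v k * (f k : ℚ)] at h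
      linear_combination h
  have h0 := hrow a hva
  have h1 := hrow b hvb
  have h2 := hrow c hvc
  have key : ∀ q, v (e q) = ((a (e q) : ℚ) * b (e q) * c (e q)) *
      ((1 / 4 : ℚ) * (H.mulVec V 3)) := fun q => by
    have h := congrArg (fun M => Matrix.mulVec M V q) hHH'
    simp only [Matrix.one_mulVec, Matrix.smul_mulVec, Pi.smul_apply, smul_eq_mul,
      ← Matrix.mulVec_mulVec] at h
    rw [show v (e q) = V q from rfl, ← h]
    simp only [Matrix.mulVec, dotProduct, Fin.sum_univ_four, Matrix.transpose_apply]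
    simp [H, r, V, h0, h1, h2]
    ring
  obtain ⟨p, hp⟩ := e.surjective ⟨i, hi⟩
  obtain ⟨q, hq'⟩ := e.surjective ⟨j, hj⟩
  have hu : ∀ k ∈ X, ((a k : ℚ) * b k * c k) * ((a k : ℚ) * b k * c k) = 1 := fun k hk => by
    rw [show (a k : ℚ) * b k * c k * (a k * b k * c k) =
      (a k : ℚ) * a k * ((b k : ℚ) * b k) * ((c k : ℚ) * c k) by ring, hcastsq (ha k hk), hcastsq (hb k hk),
      hcastsq (hc k hk)]
    norm_num
  have kp := key p
  have kq := key q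
  rw [hp] at kp
  rw [hq'] at kq
  simp only at kp kq
  push_cast
  linear_combination ((a i : ℚ) * b i * c i) * kp - ((a j : ℚ) * b j * c j) * kq +
    (1 / 4 : ℚ) * (H.mulVec V 3) * (hu i hi) - (1 / 4 : ℚ) * (H.mulVec V 3) * (hu j hj)

namespace Kl

variable {G : Type v} [Group G] [Fintype G] (K : Kl G) [Fintype (IrrCharacter G)]

theorem sum_eq_sum_supp {A : Type*} [CommRing A] (θ : IrrCharacter K.U) (f : IrrCharacter G → A) :
    ∑ χ : IrrCharacter G, f χ * (K.mi χ θ : A) = ∑ χ ∈ K.supp θ, f χ * (K.mi χ θ : A) := by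
  refine (Finset.sum_subset (Finset.subset_univ _) fun χ _ h => ?_).symm
  rw [K.mem_supp, not_not] at h
  rw [h, Int.cast_zero, mul_zero]

theorem mi_sq {χ : IrrCharacter G} {θ : IrrCharacter K.U} (h : K.mi χ θ ≠ 0) :
    K.mi χ θ * K.mi χ θ = 1 := by
  rcases K.mi_cases χ θ with e | e | e
  · exact absurd e h
  all_goals rw [e]; rfl

theorem sum_supp_degree (θ : IrrCharacter K.U) :
    ∑ χ ∈ K.supp θ, (charDegree (χ : G → ℂ) : ℤ) * K.mi χ θ = 0 := by
  have h := K.sum_eq_sum_supp (A := ℤ) θ fun χ => (charDegree (χ : G → ℂ) : ℤ)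
  simp only [Int.cast_id] at h
  rw [← h, K.sum_degree_mi]

theorem sum_supp_orth {θ η : IrrCharacter K.U} (h1 : η ≠ θ) (h2 : η ≠ K.tw θ) :
    ∑ χ ∈ K.supp θ, K.mi χ η * K.mi χ θ = 0 := by
  have h := K.sum_eq_sum_supp (A := ℤ) θ fun χ => K.mi χ η
  simp only [Int.cast_id] at h
  rw [← h, Finset.sum_congr rfl fun χ _ => mul_comm (K.mi χ η) (K.mi χ θ), K.sum_mi_mul_mi, if_neg h1,
    if_neg h2]
  rfl

/-- A moved character meets two characters of equal degree with opposite signs. -/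
theorem supp_pair {θ : IrrCharacter K.U} (h : K.tw θ ≠ θ) {χ : IrrCharacter G} (hχ : K.mi χ θ ≠ 0) :
    ∃ χ', χ' ≠ χ ∧ K.supp θ = {χ, χ'} ∧ K.mi χ' θ = -K.mi χ θ ∧
      charDegree (χ' : G → ℂ) = charDegree (χ : G → ℂ) := by
  have hcard := K.card_supp θ
  rw [if_neg h] at hcard
  obtain ⟨p, q, hpq, he⟩ := Finset.card_eq_two.1 (by exact_mod_cast hcard : (K.supp θ).card = 2)
  obtain ⟨χ', hne, he'⟩ : ∃ χ', χ' ≠ χ ∧ K.supp θ = {χ, χ'} := by
    have hm : χ ∈ K.supp θ := K.mem_supp.2 hχ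
    rw [he, Finset.mem_insert, Finset.mem_singleton] at hm
    rcases hm with rfl | rfl
    · exact ⟨q, hpq.symm, he⟩
    · exact ⟨p, hpq, he.trans (Finset.pair_comm _ _)⟩
  have hd := K.sum_supp_degree θ
  rw [he', Finset.sum_pair hne.symm] at hd
  have h' : K.mi χ' θ ≠ 0 := K.mem_supp.1 (by simp [he'])
  have hx := charDegree_pos χ
  have hx' := charDegree_pos χ'
  rcases (K.mi_cases χ θ).resolve_left hχ with e | e <;>
    rcases (K.mi_cases χ' θ).resolve_left h' with e' | e' <;>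
    rw [e, e'] at hd <;>
    exact ⟨χ', hne, he', by omega, by omega⟩

theorem apply_t [Fintype (IrrCharacter K.U)] (χ : IrrCharacter G) :
    (χ : G → ℂ) K.t = ∑ θ : IrrCharacter K.U, (K.mi χ θ : ℂ) * (θ : K.U → ℂ) 1 := by
  rw [← K.apply_section χ 1, OneMemClass.coe_one, mul_one]

section Fixed

variable {g : G} (hgt : g * K.t * g⁻¹ = K.u) (hgu : g * K.u * g⁻¹ = K.t * K.u)
  {l : K.U →* ℂˣ} (hl : K.Fix l)
  (hrot : ∀ y y' : K.U, (y : G) ∈ K.D → (y' : G) = g * y * g⁻¹ → l y = l y')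
include hgt hgu hl hrot

theorem only_lin (χ : IrrCharacter G) (hχ : K.mi χ (K.lin l) ≠ 0) (θ : IrrCharacter K.U)
    (hθ : K.mi χ θ ≠ 0) : θ = K.lin l := by
  have := Fintype.ofFinite (IrrCharacter K.U)
  rcases em (K.tw θ = θ) with h | h
  · exact K.eq_lin_of_fixed hgt hgu hl hrot χ hχ θ h hθ
  exfalso
  obtain ⟨χ', hne, hsupp, hneg, hdeg⟩ := K.supp_pair h hθ
  have hθl : K.lin l ≠ θ := fun e => h (e ▸ K.tw_lin hl)
  have hθl' : K.lin l ≠ K.tw θ := fun e => h (by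
    have := congrArg K.tw e
    rw [K.tw_tw, K.tw_lin hl] at this
    rw [← this, K.tw_lin hl])
  have horth := K.sum_supp_orth hθl hθl'
  rw [hsupp, Finset.sum_pair hne.symm, hneg] at horth
  have ha : K.mi χ' (K.lin l) = K.mi χ (K.lin l) := by
    have : (K.mi χ (K.lin l) - K.mi χ' (K.lin l)) * K.mi χ θ = 0 := by linear_combination horth
    exact (sub_eq_zero.1 ((mul_eq_zero.1 this).resolve_right hθ)).symm
  have hχ' : K.mi χ' (K.lin l) ≠ 0 := ha ▸ hχ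
  have hothers : ∀ ψ, (ψ = χ ∨ ψ = χ') → ∀ η, η ≠ K.lin l → η ≠ θ → η ≠ K.tw θ → K.mi ψ η = 0 := by
    intro ψ hψ η h1 h2 h3
    by_contra hη
    have hψl : K.mi ψ (K.lin l) ≠ 0 := by rcases hψ with rfl | rfl; exacts [hχ, hχ']
    have hηtw : K.tw η ≠ η := fun e => h1 (K.eq_lin_of_fixed hgt hgu hl hrot ψ hψl η e hη)
    obtain ⟨ψ', hne', hsupp', hneg', -⟩ := K.supp_pair hηtw hη
    have ho := K.sum_supp_orth (θ := η) (η := θ) (Ne.symm h2) (fun e => h3 (by rw [e, K.tw_tw]))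
    rw [hsupp', Finset.sum_pair hne'.symm, hneg'] at ho
    have h4 : K.mi ψ θ = K.mi ψ' θ := by
      have : (K.mi ψ θ - K.mi ψ' θ) * K.mi ψ η = 0 := by linear_combination ho
      exact sub_eq_zero.1 ((mul_eq_zero.1 this).resolve_right hη)
    have hψθ : K.mi ψ θ ≠ 0 := by
      rcases hψ with rfl | rfl
      · exact hθ
      · rw [hneg]; exact neg_ne_zero.2 hθ
    have hψ' : ψ' = χ ∨ ψ' = χ' := by
      have h5 : ψ' ∈ K.supp θ := K.mem_supp.2 (h4 ▸ hψθ)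
      simpa [hsupp] using h5
    rcases hψ with rfl | rfl <;> rcases hψ' with rfl | rfl
    · exact hne' rfl
    · rw [hneg] at h4; exact hθ (by omega)
    · rw [hneg] at h4; exact hθ (by omega)
    · exact hne' rfl
  set f : ℂ := (θ : K.U → ℂ) 1 with hf
  have hf' : (K.tw θ : K.U → ℂ) 1 = f := by rw [K.tw_apply, map_one]
  have hval : ∀ ψ, (ψ = χ ∨ ψ = χ') → (ψ : G → ℂ) K.t = (K.mi ψ (K.lin l) : ℂ) + 2 * (K.mi ψ θ : ℂ) * f := by
    intro ψ hψ
    rw [K.apply_t, ← Finset.sum_subset (Finset.subset_univ {K.lin l, θ, K.tw θ}) fun η _ hη => ?_,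
      Finset.sum_insert (by simp [hθl, hθl']), Finset.sum_pair (Ne.symm h), K.lin_apply, map_one, Units.val_one,
      mul_one, K.mi_tw, hf']
    · ring
    · simp only [Finset.mem_insert, Finset.mem_singleton, not_or] at hη
      rw [hothers ψ hψ η hη.1 hη.2.1 hη.2.2, Int.cast_zero, zero_mul]
  have hR := K.R_eq_zero h
  rw [R, Finset.sum_congr rfl fun (ψ : IrrCharacter G) _ => mul_div_right_comm ((ψ : G → ℂ) K.t ^ 2) (K.mi ψ θ : ℂ) _,
    K.sum_eq_sum_supp θ, hsupp, Finset.sum_pair hne.symm, hval χ (Or.inl rfl), hval χ' (Or.inr rfl), ha,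
    hneg, hdeg] at hR
  push_cast at hR
  have hx : (charDegree (χ : G → ℂ) : ℂ) ≠ 0 := Nat.cast_ne_zero.2 (charDegree_pos χ).ne'
  field_simp at hR
  have hm : (K.mi χ θ : ℂ) * K.mi χ θ = 1 := by exact_mod_cast K.mi_sq hθ
  have h8 : (K.mi χ (K.lin l) : ℂ) * f = 0 := by
    linear_combination (1 / 8 : ℂ) * hR - (K.mi χ (K.lin l) : ℂ) * f * hm
  rcases mul_eq_zero.1 h8 with e | e
  · exact hχ (by exact_mod_cast e)
  · exact Char.IsIrr.apply_one_ne_zero θ.2 e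

theorem fixed_apply (χ : IrrCharacter G) (hχ : K.mi χ (K.lin l) ≠ 0) (y : K.U) :
    (χ : G → ℂ) (K.t * y) = (K.mi χ (K.lin l) : ℂ) * (l y : ℂ) := by
  have := Fintype.ofFinite (IrrCharacter K.U)
  rw [K.apply_section, Finset.sum_eq_single (K.lin l) (fun η _ hη => ?_) (by simp), K.lin_apply]
  rw [show K.mi χ η = 0 from not_not.1 fun h => hη (K.only_lin hgt hgu hl hrot χ hχ η h),
    Int.cast_zero, zero_mul]

theorem fixed_R : K.R (K.lin l) =
    ∑ χ ∈ K.supp (K.lin l), (K.mi χ (K.lin l) : ℂ) / (charDegree (χ : G → ℂ) : ℂ) := by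
  rw [R, Finset.sum_congr rfl fun (ψ : IrrCharacter G) _ => mul_div_right_comm ((ψ : G → ℂ) K.t ^ 2) (K.mi ψ _ : ℂ) _,
    K.sum_eq_sum_supp]
  refine Finset.sum_congr rfl fun χ hχ => ?_
  have hm : (K.mi χ (K.lin l) : ℂ) * K.mi χ (K.lin l) = 1 := by
    exact_mod_cast K.mi_sq (K.mem_supp.1 hχ)
  have h := K.fixed_apply hgt hgu hl hrot χ (K.mem_supp.1 hχ) 1
  rw [OneMemClass.coe_one, mul_one, map_one, Units.val_one, mul_one] at h
  rw [h, div_mul_eq_mul_div]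
  congr 1
  linear_combination (K.mi χ (K.lin l) : ℂ) * hm

end Fixed

section Moved

variable {l₀ l₁ l₂ : K.U →* ℂˣ} (h₀ : K.Fix l₀) (h₁ : K.Fix l₁) (h₂ : K.Fix l₂)
  (h01 : K.lin l₁ ≠ K.lin l₀) (h02 : K.lin l₂ ≠ K.lin l₀) (h12 : K.lin l₂ ≠ K.lin l₁)
  (hs1 : K.supp (K.lin l₁) = K.supp (K.lin l₀)) (hs2 : K.supp (K.lin l₂) = K.supp (K.lin l₀))
include h₀ h₁ h₂ h01 h02 h12 hs1 hs2

theorem moved_R : ∃ σ : ℤ, (σ = 1 ∨ σ = -1) ∧ ∃ χ ∈ K.supp (K.lin l₀),
    K.R (K.lin l₀) = 8 * (σ : ℂ) / (charDegree (χ : G → ℂ) : ℂ) ∧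
      (∀ ψ ∈ K.supp (K.lin l₀), charDegree (ψ : G → ℂ) = charDegree (χ : G → ℂ)) ∧
      K.mi χ (K.lin l₀) * K.mi χ (K.lin l₁) * K.mi χ (K.lin l₂) = σ ∧
      (χ : G → ℂ) K.t = ((K.mi χ (K.lin l₀) + K.mi χ (K.lin l₁) + K.mi χ (K.lin l₂) : ℤ) : ℂ) ∧
      ∀ θ, K.mi χ θ ≠ 0 → θ = K.lin l₀ ∨ θ = K.lin l₁ ∨ θ = K.lin l₂ := by
  have := Fintype.ofFinite (IrrCharacter K.U)
  set X := K.supp (K.lin l₀) with hXdef
  have hX : X.card = 4 := by
    have := K.card_supp (K.lin l₀)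
    rw [if_pos (K.tw_lin h₀)] at this
    exact_mod_cast this
  have hmem0 : ∀ χ ∈ X, K.mi χ (K.lin l₀) ≠ 0 := fun χ h => K.mem_supp.1 h
  have hmem1 : ∀ χ ∈ X, K.mi χ (K.lin l₁) ≠ 0 := fun χ h => K.mem_supp.1 (hs1.symm ▸ h)
  have hmem2 : ∀ χ ∈ X, K.mi χ (K.lin l₂) ≠ 0 := fun χ h => K.mem_supp.1 (hs2.symm ▸ h)
  have hpm : ∀ {χ : IrrCharacter G} {θ : IrrCharacter K.U}, K.mi χ θ ≠ 0 → K.mi χ θ = 1 ∨ K.mi χ θ = -1 :=
    fun h => (K.mi_cases _ _).resolve_left h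
  have horth : ∀ {θ η : IrrCharacter K.U}, K.tw θ = θ → η ≠ θ → K.supp θ = X →
      ∑ χ ∈ X, K.mi χ η * K.mi χ θ = 0 := fun ht hne hs => by
    rw [← hs]; exact K.sum_supp_orth hne (by rwa [ht])
  have key := fun v hv0 hv1 hv2 {i j : IrrCharacter G} (hi : i ∈ X) (hj : j ∈ X) =>
    sign_vectors X hX (fun χ => K.mi χ (K.lin l₀)) (fun χ => K.mi χ (K.lin l₁))
      (fun χ => K.mi χ (K.lin l₂)) v (fun χ h => hpm (hmem0 χ h)) (fun χ h => hpm (hmem1 χ h))
      (fun χ h => hpm (hmem2 χ h))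
      (by rw [Finset.sum_congr rfl fun χ _ => mul_comm (K.mi χ (K.lin l₀)) _]
          exact horth (K.tw_lin h₀) h01 rfl)
      (by rw [Finset.sum_congr rfl fun χ _ => mul_comm (K.mi χ (K.lin l₀)) _]
          exact horth (K.tw_lin h₀) h02 rfl)
      (by rw [Finset.sum_congr rfl fun χ _ => mul_comm (K.mi χ (K.lin l₁)) _]
          exact horth (K.tw_lin h₁) h12 hs1) hv0 hv1 hv2 hi hj
  have hd0 : ∀ {θ : IrrCharacter K.U}, K.supp θ = X →
      ∑ χ ∈ X, (charDegree (χ : G → ℂ) : ℚ) * (K.mi χ θ : ℚ) = 0 := fun h => by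
    rw [← h]; exact_mod_cast K.sum_supp_degree _
  obtain ⟨χ₀, hχ₀⟩ : X.Nonempty := Finset.card_pos.1 (by omega)
  set w := fun χ => K.mi χ (K.lin l₀) * K.mi χ (K.lin l₁) * K.mi χ (K.lin l₂) with hw
  have hwpm : ∀ χ ∈ X, w χ = 1 ∨ w χ = -1 := fun χ h => by
    simp only [hw]
    rcases hpm (hmem0 χ h) with e | e <;> rcases hpm (hmem1 χ h) with e' | e' <;>
      rcases hpm (hmem2 χ h) with e'' | e'' <;> simp [e, e', e'']
  have hxw : ∀ ψ ∈ X, charDegree (ψ : G → ℂ) = charDegree (χ₀ : G → ℂ) ∧ w ψ = w χ₀ := by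
    intro ψ hψ
    have h := key (fun χ => (charDegree (χ : G → ℂ) : ℚ)) (hd0 rfl) (hd0 hs1) (hd0 hs2) hψ hχ₀
    have h' : (charDegree (ψ : G → ℂ) : ℤ) * w ψ = (charDegree (χ₀ : G → ℂ) : ℤ) * w χ₀ := by
      exact_mod_cast h
    have := charDegree_pos ψ
    have := charDegree_pos χ₀
    rcases hwpm ψ hψ with e | e <;> rcases hwpm χ₀ hχ₀ with e' | e' <;> rw [e, e'] at h' ⊢ <;>
      refine ⟨by omega, by omega⟩
  set x := charDegree (χ₀ : G → ℂ) with hx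
  have hzero : ∀ θ, θ ≠ K.lin l₀ → θ ≠ K.lin l₁ → θ ≠ K.lin l₂ → ∀ χ ∈ X, K.mi χ θ = 0 := by
    intro θ n0 n1 n2 χ hχ
    have hconst : ∀ ψ ∈ X, K.mi ψ θ = K.mi χ θ := by
      intro ψ hψ
      have h := key (fun χ => (K.mi χ θ : ℚ)) (by exact_mod_cast horth (K.tw_lin h₀) n0 rfl)
        (by exact_mod_cast horth (K.tw_lin h₁) n1 hs1) (by exact_mod_cast horth (K.tw_lin h₂) n2 hs2) hψ hχ
      have h' : K.mi ψ θ * w ψ = K.mi χ θ * w χ := by exact_mod_cast h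
      rw [(hxw ψ hψ).2, (hxw χ hχ).2] at h'
      refine mul_right_cancel₀ ?_ h'
      rcases hwpm χ₀ hχ₀ with e | e <;> rw [e] <;> norm_num
    by_contra hne
    have hsub : X ⊆ K.supp θ := fun ψ hψ => K.mem_supp.2 (by rw [hconst ψ hψ]; exact hne)
    have hcard := K.card_supp θ
    have hle : (K.supp θ).card ≤ 4 := by
      have : ((K.supp θ).card : ℤ) ≤ 4 := by rw [hcard]; split <;> norm_num
      exact_mod_cast this
    have heq : X = K.supp θ := Finset.eq_of_subset_of_card_le hsub (by omega)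
    have hd := K.sum_supp_degree θ
    rw [← heq, Finset.sum_congr rfl (g := fun _ => (x : ℤ) * K.mi χ θ) fun ψ hψ => by
      rw [(hxw ψ hψ).1, hconst ψ hψ], Finset.sum_const, hX, nsmul_eq_mul] at hd
    have := charDegree_pos χ₀
    rcases hpm hne with e | e <;> rw [e] at hd <;> push_cast at hd <;> omega
  have hval : ∀ χ ∈ X, (χ : G → ℂ) K.t =
      ((K.mi χ (K.lin l₀) + K.mi χ (K.lin l₁) + K.mi χ (K.lin l₂) : ℤ) : ℂ) := by
    intro χ hχ
    rw [K.apply_t, ← Finset.sum_subset (Finset.subset_univ {K.lin l₀, K.lin l₁, K.lin l₂}) fun η _ hη => ?_,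
      Finset.sum_insert (by simp [h01.symm, h02.symm]), Finset.sum_pair h12.symm]
    · simp only [K.lin_apply, map_one, Units.val_one, mul_one]
      push_cast
      ring
    · simp only [Finset.mem_insert, Finset.mem_singleton, not_or] at hη
      rw [hzero η hη.1 hη.2.1 hη.2.2 χ hχ, Int.cast_zero, zero_mul]
  have hsum0 : ∀ {θ : IrrCharacter K.U}, K.supp θ = X → ∑ χ ∈ X, K.mi χ θ = 0 := fun {θ} hθ => by
    have h := K.sum_supp_degree θ
    rw [hθ, Finset.sum_congr rfl (g := fun ψ => (x : ℤ) * K.mi ψ θ) fun ψ hψ => by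
      rw [(hxw ψ hψ).1], ← Finset.mul_sum] at h
    exact (mul_eq_zero.1 h).resolve_left (by exact_mod_cast (charDegree_pos χ₀).ne')
  refine ⟨w χ₀, hwpm χ₀ hχ₀, χ₀, hχ₀, ?_, fun ψ hψ => (hxw ψ hψ).1, rfl, hval χ₀ hχ₀,
    fun θ hθ => ?_⟩
  rotate_left
  · by_contra hc
    push Not at hc
    exact hθ (hzero θ hc.1 hc.2.1 hc.2.2 χ₀ hχ₀)
  have hcube : ∀ ψ ∈ X, (K.mi ψ (K.lin l₀) + K.mi ψ (K.lin l₁) + K.mi ψ (K.lin l₂)) ^ 2 *
      K.mi ψ (K.lin l₀) =
      3 * K.mi ψ (K.lin l₀) + 2 * K.mi ψ (K.lin l₁) + 2 * K.mi ψ (K.lin l₂) + 2 * w χ₀ := by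
    intro ψ hψ
    rw [← (hxw ψ hψ).2]
    simp only [hw]
    rcases hpm (hmem0 ψ hψ) with e | e <;> rcases hpm (hmem1 ψ hψ) with e' | e' <;>
      rcases hpm (hmem2 ψ hψ) with e'' | e'' <;> simp [e, e', e'']
  have htot : ∑ ψ ∈ X, (K.mi ψ (K.lin l₀) + K.mi ψ (K.lin l₁) + K.mi ψ (K.lin l₂)) ^ 2 *
      K.mi ψ (K.lin l₀) = 8 * w χ₀ := by
    rw [Finset.sum_congr rfl hcube]
    simp only [Finset.sum_add_distrib, ← Finset.mul_sum, hsum0 rfl, hsum0 hs1, hsum0 hs2,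
      Finset.sum_const, hX, nsmul_eq_mul]
    push_cast
    ring
  rw [R, Finset.sum_congr rfl fun (ψ : IrrCharacter G) _ => mul_div_right_comm ((ψ : G → ℂ) K.t ^ 2) (K.mi ψ _ : ℂ) _,
    K.sum_eq_sum_supp, ← hXdef, show (8 : ℂ) * (w χ₀ : ℂ) = ((8 * w χ₀ : ℤ) : ℂ) by push_cast; ring,
    ← htot, Int.cast_sum, Finset.sum_div]
  refine Finset.sum_congr rfl fun ψ hψ => ?_
  rw [hval ψ hψ, (hxw ψ hψ).1]
  push_cast
  ring

end Moved

end Kl

end CfsgLib.GW.Two.Lin
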