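import Cfsg.Agent.Lib.GW.Two.Linear.Parity
import Cfsg.Agent.Lib.Blocks.KleinOrder

/-!
# Pairs of involutions with product in the section of `t`
-/

set_option autoImplicit false

namespace CfsgLib.GW.Two.Lin

open Subgroup Cfsg CfsgLib.Char CfsgLib.CharAction CfsgLib.Blocks
open scoped ComplexConjugate Classical
open CfsgLib.Signalizer (involution_sq involution_inv involution_ne_one orderOf_conj orderOf_eq_two_of)

universe v

namespace Kl

variable {G : Type v} [Group G] [Fintype G] (K : Kl G) [Fintype (IrrCharacter G)]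

/-- The weighted cubic sum attached to `θ`. -/
noncomputable def R (θ : IrrCharacter K.U) : ℂ :=
  ∑ χ : IrrCharacter G, (χ : G → ℂ) K.t ^ 2 * (K.mi χ θ : ℂ) / (charDegree (χ : G → ℂ) : ℂ)

/-- Pairs `(y, p)` with `p` and `p t y` involutions. -/
noncomputable def pairs : Finset (K.U × G) :=
  Finset.univ.filter fun q => orderOf q.2 = 2 ∧ orderOf (q.2 * (K.t * (q.1 : G))) = 2

/-- The number of pairs weighted by `θ`. -/
noncomputable def P (θ : IrrCharacter K.U) : ℂ := ∑ q ∈ K.pairs, conj ((θ : K.U → ℂ) q.1)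

theorem count_eq (θ : IrrCharacter K.U) :
    (Nat.card (centralizer ({K.t} : Set G)) : ℂ) ^ 2 * K.P θ =
      (Nat.card G : ℂ) * (Nat.card K.U : ℂ) * K.R θ := by
  set c : ℂ := (Nat.card (centralizer ({K.t} : Set G)) : ℂ) with hc
  have hc0 : c ≠ 0 := Nat.cast_ne_zero.2 Nat.card_pos.ne'
  have hind : ∀ b : G, (if orderOf b = 2 then c else 0) =
      ∑ χ : IrrCharacter G, (χ : G → ℂ) b * (χ : G → ℂ) K.t := fun b =>
    (sum_apply_mul_involution K.hone K.ht b).symm
  have hclass : ∀ F : G → ℂ, ∑ a : G, (if orderOf a = 2 then c else 0) * F a =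
      ∑ x : G, F (x * K.t * x⁻¹) := by
    intro F
    have h := CfsgLib.Coh.sum_conj_eq (⊤ : Subgroup G) K.t F
    rw [top_inf_eq, ← Equiv.sum_comp Subgroup.topEquiv.symm.toEquiv] at h
    simp only [ite_mul, zero_mul, ← Finset.sum_filter, ← Finset.mul_sum]
    refine (Eq.trans ?_ h.symm)
    rw [hc]
    congr 2
    ext a
    simp only [Finset.mem_filter, Finset.mem_univ, true_and, Finset.mem_image]
    constructor
    · intro ha
      obtain ⟨x, hx⟩ := isConj_iff.1 (K.hone K.t a K.ht ha)
      exact ⟨⟨x, mem_top x⟩, hx⟩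
    · rintro ⟨x, rfl⟩
      rw [orderOf_conj]; exact K.ht
  have hN : ∀ y : K.U, ∑ a : G, (if orderOf a = 2 then c else 0) *
      (if orderOf (a * (K.t * (y : G))) = 2 then c else 0) =
      (Nat.card G : ℂ) * ∑ χ : IrrCharacter G,
        (χ : G → ℂ) K.t ^ 2 * (χ : G → ℂ) (K.t * y) / (charDegree (χ : G → ℂ) : ℂ) := by
    intro y
    rw [hclass fun a => if orderOf (a * (K.t * (y : G))) = 2 then c else 0]
    simp only [hind]
    rw [Finset.sum_comm, Finset.mul_sum]
    refine Finset.sum_congr rfl fun χ _ => ?_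
    rw [← Finset.sum_mul, CfsgLib.CharDegree.sum_conj_mul χ K.t (K.t * (y : G)),
      apply_one_eq_charDegree]
    ring
  calc c ^ 2 * K.P θ
      = ∑ y : K.U, conj ((θ : K.U → ℂ) y) * ∑ a : G, (if orderOf a = 2 then c else 0) *
          (if orderOf (a * (K.t * (y : G))) = 2 then c else 0) := by
        rw [P, pairs, Finset.sum_filter, Fintype.sum_prod_type, Finset.mul_sum]
        refine Finset.sum_congr rfl fun y _ => ?_
        rw [Finset.mul_sum, Finset.mul_sum]
        refine Finset.sum_congr rfl fun a _ => ?_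
        split_ifs with h <;> simp_all <;> ring
    _ = _ := by
        simp only [hN, R, ← K.mi_eq, classInner, Finset.mul_sum, Finset.sum_div]
        rw [Finset.sum_comm]
        refine Finset.sum_congr rfl fun χ _ => Finset.sum_congr rfl fun y _ => ?_
        have : (Nat.card K.U : ℂ) ≠ 0 := Nat.cast_ne_zero.2 Nat.card_pos.ne'
        field_simp

/-- The elements of `U` whose product with `u` is an involution. -/
noncomputable def J : Finset K.U := Finset.univ.filter fun a => a * K.conjU a = 1

/-- The two involutions of `S` other than `t`. -/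
def other (i : Bool) : G := if i then K.u else K.t * K.u

theorem other_mem (i : Bool) : K.other i ∈ (K.S : Subgroup G) := by
  cases i
  · exact mul_mem K.htS K.huS
  · exact K.huS

theorem conj_other (i : Bool) (y : K.U) : K.other i * y * (K.other i)⁻¹ = (K.conjU y : G) := by
  cases i
  · show K.t * K.u * y * (K.t * K.u)⁻¹ = _
    rw [show K.t * K.u * y * (K.t * K.u)⁻¹ = K.t * (K.conjU y : G) * K.t⁻¹ by
      show _ = K.t * (K.u * y * K.u⁻¹) * K.t⁻¹
      group, ← (K.comm_U (K.conjU y).2).eq, mul_inv_cancel_right]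
  · rfl

theorem other_order (i : Bool) : orderOf (K.other i) = 2 := by
  cases i
  · exact K.order_v
  · exact K.hu

theorem other_mul_t (i : Bool) : K.other i * K.t = K.other (!i) := by
  cases i
  · show K.t * K.u * K.t = K.u
    rw [mul_assoc, ← K.comm_tu.eq, ← mul_assoc, involution_sq K.ht, one_mul]
  · exact K.comm_tu.eq.symm

theorem orderOf_mul_other {i : Bool} {a : K.U} :
    orderOf ((a : G) * K.other i) = 2 ↔ a ∈ K.J := by
  have hsq : (a : G) * K.other i * ((a : G) * K.other i) = ((a * K.conjU a : K.U) : G) := by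
    show _ = (a : G) * (K.conjU a : G)
    rw [← K.conj_other i a, involution_inv (K.other_order i)]
    group
  constructor
  · intro h
    refine Finset.mem_filter.2 ⟨Finset.mem_univ _, Subtype.ext ?_⟩
    rw [← hsq]; exact involution_sq h
  · intro h
    refine orderOf_eq_two_of (fun e => ?_) (by rw [hsq, (Finset.mem_filter.1 h).2]; rfl)
    have h1 := eq_inv_of_mul_eq_one_left e
    rw [involution_inv (K.other_order i)] at h1
    exact involution_ne_one (K.other_order i) (K.eq_one_of_mem (K.other_mem i) (h1 ▸ a.2))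

theorem pair_shape {q : K.U × G} (hq : q ∈ K.pairs) :
    ∃ i : Bool, ∃ a : K.U, q.2 = a * K.other i ∧ a ∈ K.J ∧ a * K.conjU q.1 ∈ K.J := by
  obtain ⟨y, p⟩ := q
  obtain ⟨hp, hq⟩ := (Finset.mem_filter.1 hq).2
  have hy : Commute (y : G) K.t := K.comm_U y.2
  set z := K.t * (y : G)
  have hinv : p * z * p⁻¹ = z⁻¹ := by
    rw [involution_inv hp]
    exact eq_inv_of_mul_eq_one_left (by rw [mul_assoc]; exact involution_sq hq)
  obtain ⟨j, hj⟩ := (K.odd_of_mem y.2)
  have hzk : z ^ orderOf (y : G) = K.t := by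
    rw [(show Commute K.t (y : G) from hy.symm).mul_pow, pow_orderOf_eq_one, mul_one, hj, pow_succ,
      pow_mul, pow_two, involution_sq K.ht, one_pow, one_mul]
  have hpt : Commute p K.t := by
    refine mul_inv_eq_iff_eq_mul.1 ?_
    rw [← hzk, ← conj_pow, hinv, inv_pow, hzk, involution_inv K.ht]
  obtain ⟨a, ha, i, j, hpa⟩ := K.exists_split hpt
  have hpj : j = true := by
    by_contra hjf
    rw [Bool.not_eq_true] at hjf
    subst hjf
    have hrep : K.rep i false = if i then K.t else 1 := by simp [rep]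
    have hcomm : Commute a (K.rep i false) := by
      rw [hrep]; split
      · exact K.comm_U ha
      · exact Commute.one_right a
    have hrr : K.rep i false * K.rep i false = 1 := by
      rw [hrep]; split
      · exact involution_sq K.ht
      · exact one_mul 1
    have h2 : a * a = 1 := by
      have h := involution_sq hp
      rw [hpa, show a * K.rep i false * (a * K.rep i false) = a * (K.rep i false * a) * K.rep i false by
        group, ← hcomm.eq, show a * (a * K.rep i false) * K.rep i false =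
          a * a * (K.rep i false * K.rep i false) by group, hrr, mul_one] at h
      exact h
    have ha1 : a = 1 := CfsgLib.GW.Two.Lin.eq_one_of_sq (K.odd_of_mem ha) h2
    rw [ha1, one_mul] at hpa
    cases i
    · exact involution_ne_one hp (by rw [hpa, hrep]; rfl)
    · have hpt' : p = K.t := by rw [hpa, hrep]; rfl
      have : p * z = (y : G) := by rw [hpt', ← mul_assoc, involution_sq K.ht, one_mul]
      rw [this] at hq
      exact Nat.not_even_iff_odd.2 (K.odd_of_mem y.2) (by rw [hq]; exact even_two)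
  subst hpj
  have hrep : K.rep i true = K.other (!i) := by cases i <;> simp [rep, other]
  rw [hrep] at hpa
  refine ⟨!i, ⟨a, ha⟩, hpa, K.orderOf_mul_other.1 (hpa ▸ hp), K.orderOf_mul_other (i := !!i).1 ?_⟩
  rw [← K.other_mul_t, Subgroup.coe_mul, ← K.conj_other (!i) y]
  show orderOf (a * (K.other (!i) * y * (K.other (!i))⁻¹) * (K.other (!i) * K.t)) = 2
  rw [show a * (K.other (!i) * y * (K.other (!i))⁻¹) * (K.other (!i) * K.t) =
    a * K.other (!i) * (y * K.t) by group, hy.eq, ← hpa]
  exact hq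

theorem mem_pairs_of {i : Bool} {a b : K.U} (ha : a ∈ K.J) (hb : b ∈ K.J) :
    (K.conjU (a⁻¹ * b), (a : G) * K.other i) ∈ K.pairs := by
  refine Finset.mem_filter.2 ⟨Finset.mem_univ _, K.orderOf_mul_other.2 ha, ?_⟩
  show orderOf ((a : G) * K.other i * (K.t * (K.conjU (a⁻¹ * b) : G))) = 2
  rw [← (K.comm_U (K.conjU (a⁻¹ * b)).2).eq, ← K.conj_other i (a⁻¹ * b),
    involution_inv (K.other_order i),
    show (a : G) * K.other i * (K.other i * ((a⁻¹ * b : K.U) : G) * K.other i * K.t) =
      (a : G) * (K.other i * K.other i) * ((a⁻¹ * b : K.U) : G) * (K.other i * K.t) by group,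
    involution_sq (K.other_order i), mul_one, K.other_mul_t, Subgroup.coe_mul, Subgroup.coe_inv,
    mul_inv_cancel_left]
  exact K.orderOf_mul_other.2 hb

theorem P_eq (θ : IrrCharacter K.U) :
    K.P θ = 2 * ∑ a ∈ K.J, ∑ b ∈ K.J, conj ((K.tw θ : K.U → ℂ) (a⁻¹ * b)) := by
  rw [P]
  refine Eq.trans (Finset.sum_bij (s := (Finset.univ : Finset Bool) ×ˢ (K.J ×ˢ K.J))
    (f := fun q => conj ((θ : K.U → ℂ) (K.conjU (q.2.1⁻¹ * q.2.2))))
    (fun q _ => (K.conjU (q.2.1⁻¹ * q.2.2), (q.2.1 : G) * K.other q.1)) ?_ ?_ ?_ fun _ _ => rfl).symm ?_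
  · intro q hq
    obtain ⟨-, h⟩ := Finset.mem_product.1 hq
    obtain ⟨ha, hb⟩ := Finset.mem_product.1 h
    exact K.mem_pairs_of ha hb
  · rintro ⟨i, a, b⟩ - ⟨i', a', b'⟩ - e
    obtain ⟨e1, e2⟩ := Prod.mk.inj e
    simp only at e1 e2
    have h1 : (a' : G)⁻¹ * a = K.other i' * (K.other i)⁻¹ := by
      rw [eq_mul_inv_iff_mul_eq, mul_assoc, e2, inv_mul_cancel_left]
    have h2 := K.eq_one_of_mem (h1 ▸ mul_mem (K.other_mem i') (inv_mem (K.other_mem i)))
      (mul_mem (inv_mem a'.2) a.2)
    obtain rfl : a' = a := Subtype.ext (inv_mul_eq_one.1 h2)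
    have hi : i = i' := by
      have := mul_left_cancel e2
      cases i <;> cases i' <;> first | rfl | (exfalso; simp [other] at this; exact involution_ne_one K.ht this)
    have hb : b = b' := by
      have := congrArg K.conjU e1
      rw [K.conjU_conjU, K.conjU_conjU] at this
      exact mul_left_cancel this
    rw [hi, hb]
  · intro q hq
    obtain ⟨i, a, hp, ha, hb⟩ := K.pair_shape hq
    refine ⟨(i, a, a * K.conjU q.1), ?_, Prod.ext ?_ hp.symm⟩
    · simp [Finset.mem_product, ha, hb]
    · show K.conjU (a⁻¹ * (a * K.conjU q.1)) = q.1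
      rw [inv_mul_cancel_left, K.conjU_conjU]
  · simp [Finset.sum_product, tw_apply]

/-- All fixed linear characters see the same number of pairs. -/
theorem R_lin {l : K.U →* ℂˣ} (hl : K.Fix l) : K.R (K.lin l) = K.R (K.lin 1) := by
  have hone : ∀ a ∈ K.J, l a = 1 := by
    intro a ha
    have h := congrArg l (Finset.mem_filter.1 ha).2
    rw [map_mul, hl a, map_one, ← map_mul, ← pow_two, map_pow] at h
    have h2 : l a ^ orderOf a = 1 := by rw [← map_pow, pow_orderOf_eq_one, map_one]
    obtain ⟨j, hj⟩ : Odd (orderOf a) := by rw [← Subgroup.orderOf_coe]; exact K.odd_of_mem a.2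
    rwa [hj, pow_succ, pow_mul, h, one_pow, one_mul] at h2
  have hP : K.P (K.lin l) = K.P (K.lin 1) := by
    rw [P, P]
    refine Finset.sum_congr rfl fun q hq => ?_
    obtain ⟨i, a, -, ha, hb⟩ := K.pair_shape hq
    have h := hone _ hb
    rw [map_mul, hone a ha, one_mul, hl] at h
    rw [K.lin_apply, K.lin_apply, h, MonoidHom.one_apply]
  have h1 := K.count_eq (K.lin l)
  rw [hP, K.count_eq (K.lin 1)] at h1
  exact (mul_left_cancel₀ (mul_ne_zero (Nat.cast_ne_zero.2 Nat.card_pos.ne')
    (Nat.cast_ne_zero.2 Nat.card_pos.ne')) h1).symm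

/-- Characters moved by `u` see no pairs. -/
theorem sum_J_eq_zero {θ : IrrCharacter K.U} (h : K.tw θ ≠ θ) (b : K.U) :
    ∑ a ∈ K.J, (θ : K.U → ℂ) (b * a) = 0 := by
  obtain ⟨n, ρ, hρ, hχ⟩ := θ.2
  let ρ' : Representation ℂ K.U (Fin n → ℂ) := ρ.comp K.conjU
  haveI := hρ
  haveI : ρ'.IsIrreducible := by
    let e : Subrepresentation ρ' ≃o Subrepresentation ρ :=
      { toFun := fun S => ⟨S.toSubmodule, fun g v hv => by
          have := S.apply_mem_toSubmodule (K.conjU g) hv
          rwa [show ρ' (K.conjU g) = ρ g by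
            show ρ (K.conjU (K.conjU g)) = ρ g
            rw [K.conjU_conjU]] at this⟩
        invFun := fun S => ⟨S.toSubmodule, fun x v hv => S.apply_mem_toSubmodule (K.conjU x) hv⟩
        left_inv := fun S => rfl
        right_inv := fun S => rfl
        map_rel_iff' := Iff.rfl }
    exact e.isSimpleOrder
  let T : Module.End ℂ (Fin n → ℂ) := ∑ a ∈ K.J, ρ a
  have hmem : ∀ c, ∀ a ∈ K.J, c * a * (K.conjU c)⁻¹ ∈ K.J := by
    intro c a ha
    refine Finset.mem_filter.2 ⟨Finset.mem_univ _, ?_⟩
    rw [map_mul, map_mul, map_inv, K.conjU_conjU,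
      show c * a * (K.conjU c)⁻¹ * (K.conjU c * K.conjU a * c⁻¹) = c * (a * K.conjU a) * c⁻¹ by group,
      (Finset.mem_filter.1 ha).2, mul_one, mul_inv_cancel]
  have hcomm : ∀ c, T * ρ' c = ρ c * T := fun c => by
    simp only [T, ρ', Finset.sum_mul, Finset.mul_sum]
    refine (Finset.sum_bij' (fun a _ => c * a * (K.conjU c)⁻¹) (fun a _ => c⁻¹ * a * K.conjU c)
      (fun a ha => hmem c a ha) (fun a ha => ?_) (fun _ _ => by group) (fun _ _ => by group)
      fun a _ => ?_).symm
    · have := hmem c⁻¹ a ha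
      rwa [map_inv, inv_inv] at this
    · show ρ c * ρ a = ρ (c * a * (K.conjU c)⁻¹) * ρ (K.conjU c)
      rw [← map_mul, ← map_mul, inv_mul_cancel_right]
  let f : ρ'.IntertwiningMap ρ := ⟨T, fun c => hcomm c⟩
  have hT : T = 0 := by
    rcases Representation.IsIrreducible.bijective_or_eq_zero f with hb | h0
    · refine absurd (irr_ext fun y => ?_) h
      have he := Representation.char_iso (Representation.IntertwiningMap.ofBijective f hb)
      rw [K.tw_apply, ← hχ]
      exact congrFun he y
    · exact congrArg Representation.IntertwiningMap.toLinearMap h0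
  rw [← hχ]
  calc ∑ a ∈ K.J, ρ.character (b * a) = LinearMap.trace ℂ _ (ρ b * T) := by
        simp only [T, Finset.mul_sum, map_sum, ← map_mul]
        rfl
    _ = 0 := by rw [hT, mul_zero, map_zero]

theorem R_eq_zero {θ : IrrCharacter K.U} (h : K.tw θ ≠ θ) : K.R θ = 0 := by
  have h' : K.tw (K.tw θ) ≠ K.tw θ := by rw [K.tw_tw]; exact fun e => h e.symm
  have hP : K.P θ = 0 := by
    rw [K.P_eq, Finset.sum_eq_zero fun a _ => ?_, mul_zero]
    rw [← map_sum, K.sum_J_eq_zero h' a⁻¹, map_zero]
  have h1 := K.count_eq θ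
  rw [hP, mul_zero] at h1
  exact (mul_eq_zero.1 h1.symm).resolve_left
    (mul_ne_zero (Nat.cast_ne_zero.2 Nat.card_pos.ne') (Nat.cast_ne_zero.2 Nat.card_pos.ne'))

end Kl

end CfsgLib.GW.Two.Lin
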