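import Cfsg.Agent.Lib.GW.Two.Linear.Cases
import Cfsg.Agent.Lib.GW.BlockBounds
import Cfsg.Agent.Lib.Perm.AltDerange.Cases
import Mathlib.GroupTheory.Perm.ViaEmbedding

/-!
# Simple groups: `D` is not normal in `U`, and degrees
-/

set_option autoImplicit false

open scoped Classical

namespace CfsgLib.GW.Two.Lin

open Subgroup Cfsg CfsgLib.Char CfsgLib.CharAction CfsgLib.Blocks
open scoped ComplexConjugate
open CfsgLib.Signalizer (involution_sq involution_inv involution_ne_one orderOf_conj orderOf_eq_two_of)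

universe v

theorem perm_five_centralizer : ∀ d : Equiv.Perm (Fin 5), d ^ 15 = 1 → d ≠ 1 →
    (Finset.univ.filter fun g : Equiv.Perm (Fin 5) => g * d = d * g).card ≤ 6 := by
  decide +kernel

namespace Kl

variable {G : Type v} [Group G] [Fintype G] (K : Kl G)

/-- A rotation of the four-group exists. -/
theorem exists_rotation : ∃ g : G, g * K.t * g⁻¹ = K.u ∧ g * K.u * g⁻¹ = K.t * K.u := by
  have : Fact (Nat.Prime 2) := ⟨Nat.prime_two⟩
  obtain ⟨c, hc⟩ := isConj_iff.1 (K.hone K.t K.u K.ht K.hu)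
  set H := centralizer ({K.u} : Set G)
  have hle : (K.S : Subgroup G) ≤ H := fun s hs =>
    mem_centralizer_singleton_iff.2 (commute_of_mem_klein K.S K.four hs K.huS)
  have hle' : ((c • K.S : Sylow 2 G) : Subgroup G) ≤ H := by
    rw [Sylow.coe_subgroup_smul]
    rintro _ ⟨s, hs, rfl⟩
    refine mem_centralizer_singleton_iff.2 ?_
    have := (show Commute s K.t from commute_of_mem_klein K.S K.four hs K.htS).map
      (MulAut.conj c).toMonoidHom
    simp only [MulEquiv.coe_toMonoidHom, MulAut.conj_apply, hc] at this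
    exact this
  obtain ⟨h', hh'⟩ := MulAction.exists_smul_eq H ((c • K.S).subtype hle') (K.S.subtype hle)
  set n := (h' : G) * c
  have hnt : n * K.t * n⁻¹ = K.u := by
    rw [show n * K.t * n⁻¹ = (h' : G) * (c * K.t * c⁻¹) * (h' : G)⁻¹ by simp only [n]; group, hc,
      (show Commute (h' : G) K.u from mem_centralizer_singleton_iff.1 h'.2).eq, mul_inv_cancel_right]
  have hnS : ∀ s ∈ (K.S : Subgroup G), n * s * n⁻¹ ∈ (K.S : Subgroup G) := by
    intro s hs
    have h1 : c * s * c⁻¹ ∈ ((c • K.S : Sylow 2 G) : Subgroup G) := by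
      rw [Sylow.coe_subgroup_smul]
      exact ⟨s, hs, by simp⟩
    have h2 : h' * (⟨c * s * c⁻¹, hle' h1⟩ : H) * h'⁻¹ ∈
        ((K.S.subtype hle : Sylow 2 H) : Subgroup H) := by
      rw [← hh', Sylow.coe_subgroup_smul]
      exact ⟨⟨c * s * c⁻¹, hle' h1⟩, h1, rfl⟩
    rw [Sylow.coe_subtype, mem_subgroupOf] at h2
    simpa [n, mul_assoc] using h2
  rcases K.S_cases (hnS _ K.huS) with e | e | e | e
  · exact absurd (conj_eq_one_iff.1 e) (involution_ne_one K.hu)
  · exfalso
    obtain ⟨a, k, hk, hn⟩ := Nat.exists_eq_two_pow_mul_odd (orderOf_pos n).ne'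
    obtain ⟨j, rfl⟩ := hk
    have hswap : ∀ i : ℕ, n ^ (2 * i + 1) * K.t * (n ^ (2 * i + 1))⁻¹ = K.u := by
      intro i
      induction i with
      | zero => simpa using hnt
      | succ i ih =>
        rw [show 2 * (i + 1) + 1 = 2 + (2 * i + 1) by ring, pow_add, pow_two,
          show n * n * n ^ (2 * i + 1) * K.t * (n * n * n ^ (2 * i + 1))⁻¹ =
            n * (n * (n ^ (2 * i + 1) * K.t * (n ^ (2 * i + 1))⁻¹) * n⁻¹) * n⁻¹ by group, ih, e, hnt]
    set m := n ^ (2 * j + 1)
    have hmN : m ∈ normalizer ((K.S : Subgroup G) : Set G) :=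
      pow_mem (show n ∈ normalizer ((K.S : Subgroup G) : Set G) by
        refine mem_normalizer_iff.2 fun x => ⟨hnS x, fun hx => ?_⟩
        let f : ↥(K.S : Subgroup G) → ↥(K.S : Subgroup G) := fun s => ⟨_, hnS s s.2⟩
        obtain ⟨y, hy⟩ := Finite.surjective_of_injective (f := f)
          (fun p q h => Subtype.ext (mul_left_cancel (mul_right_cancel (congrArg Subtype.val h)))) ⟨_, hx⟩
        exact mul_left_cancel (mul_right_cancel (congrArg Subtype.val hy)) ▸ y.2) _
    have hp : IsPGroup 2 (zpowers m) := IsPGroup.iff_card.2 ⟨a, by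
      rw [Nat.card_zpowers, orderOf_pow' _ (by omega), hn, Nat.gcd_eq_right (dvd_mul_left _ _),
        Nat.mul_div_cancel _ (by omega)]⟩
    have hmS : m ∈ (K.S : Subgroup G) := by
      have h : m ∈ zpowers m ⊓ normalizer ((K.S : Subgroup G) : Set G) := ⟨mem_zpowers m, hmN⟩
      exact ((hp.inf_normalizer_sylow K.S).le h).2
    have h := hswap j
    rw [commute_of_mem_klein K.S K.four hmS K.htS, mul_inv_cancel_right] at h
    exact K.htu h
  · exact absurd (mul_left_cancel (mul_right_cancel (hnt.trans e.symm))) K.htu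
  · exact ⟨n, hnt, e⟩

/-- In a simple group `D` is not normal in `U`. -/
theorem not_normal_D [IsSimpleGroup G] (hD : K.D ≠ ⊥) :
    ¬ ∀ a ∈ K.U, ∀ d ∈ K.D, a * d * a⁻¹ ∈ K.D := by
  intro hnorm
  have : Fact (Nat.Prime 2) := ⟨Nat.prime_two⟩
  obtain ⟨g, hgt, hgu⟩ := K.exists_rotation
  set H := normalizer (K.D : Set G) with hH
  have hmemN : ∀ x : G, (∀ d ∈ K.D, x * d * x⁻¹ ∈ K.D) → x ∈ H := fun x h => by
    refine mem_normalizer_iff.2 fun y => ⟨h y, fun hy => ?_⟩
    let f : K.D → K.D := fun d => ⟨_, h d d.2⟩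
    obtain ⟨z, hz⟩ := Finite.surjective_of_injective (f := f)
      (fun p q h => Subtype.ext (mul_left_cancel (mul_right_cancel (congrArg Subtype.val h)))) ⟨_, hy⟩
    exact mul_left_cancel (mul_right_cancel (congrArg Subtype.val hz)) ▸ z.2
  have hSH : (K.S : Subgroup G) ≤ H := fun s hs => hmemN s fun d hd => by
    rw [(K.comm_S hd hs).symm.eq, mul_inv_cancel_right]; exact hd
  have hgH : g ∈ H := hmemN g fun d hd => K.conj_g_mem hgt hgu hd
  have hCH : centralizer ({K.t} : Set G) ≤ H := fun c hc => by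
    obtain ⟨a, ha, i, j, rfl⟩ := K.exists_split (mem_centralizer_singleton_iff.1 hc)
    exact mul_mem (hmemN a (hnorm a ha)) (hSH (K.rep_mem i j))
  have hone : ∀ a b : H, orderOf a = 2 → orderOf b = 2 → IsConj a b := by
    have hgo : ∀ a : H, orderOf a = 2 → IsConj a ⟨K.t, hSH K.htS⟩ := by
      intro a ha
      obtain ⟨Q, hQ⟩ := (IsPGroup.of_card (n := 1) (by rw [Nat.card_zpowers, ha, pow_one]) :
        IsPGroup 2 (zpowers a)).exists_le_sylow
      obtain ⟨c, hc⟩ := MulAction.exists_smul_eq H Q (K.S.subtype hSH)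
      have hm : c * a * c⁻¹ ∈ ((K.S.subtype hSH : Sylow 2 H) : Subgroup H) := by
        rw [← hc, Sylow.coe_subgroup_smul]
        exact ⟨a, hQ (mem_zpowers a), rfl⟩
      rw [Sylow.coe_subtype, mem_subgroupOf] at hm
      refine (isConj_iff.2 ⟨c, rfl⟩ : IsConj a (c * a * c⁻¹)).trans ?_
      have hne : ((c * a * c⁻¹ : H) : G) ≠ 1 := fun e => by
        have : c * a * c⁻¹ = 1 := Subtype.ext e
        rw [conj_eq_one_iff] at this
        rw [this, orderOf_one] at ha
        exact absurd ha (by norm_num)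
      have hu' : IsConj (⟨K.u, hSH K.huS⟩ : H) ⟨K.t, hSH K.htS⟩ :=
        (isConj_iff.2 ⟨(⟨g, hgH⟩ : H), Subtype.ext hgt⟩).symm
      rcases K.S_cases hm with e | e | e | e
      · exact absurd e hne
      · rw [show c * a * c⁻¹ = (⟨K.t, hSH K.htS⟩ : H) from Subtype.ext e]
      · rwa [show c * a * c⁻¹ = (⟨K.u, hSH K.huS⟩ : H) from Subtype.ext e]
      · rw [show c * a * c⁻¹ = (⟨K.t * K.u, mul_mem (hSH K.htS) (hSH K.huS)⟩ : H) from Subtype.ext e]
        exact (isConj_iff.2 ⟨(⟨g, hgH⟩ : H), Subtype.ext hgu⟩).symm.trans hu'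
    exact fun a b ha hb => (hgo a ha).trans (hgo b hb).symm
  haveI := K.four
  obtain ⟨e⟩ : Nonempty (DihedralGroup (2 ^ 1) ≃* (K.S : Subgroup G)) :=
    (IsKleinFour.nonempty_mulEquiv (G₁ := DihedralGroup 2) (G₂ := (K.S : Subgroup G)))
  set f : DihedralGroup (2 ^ 1) →* G := (K.S : Subgroup G).subtype.comp e.toMonoidHom with hf
  have hfi : Function.Injective f := (K.S : Subgroup G).subtype_injective.comp e.injective
  have hfS : f.range = (K.S : Subgroup G) := by
    rw [hf, MonoidHom.range_comp, MonoidHom.range_eq_top.2 e.surjective, ← MonoidHom.range_eq_map,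
      Subgroup.range_subtype]
  have hfH : ∀ a, f a ∈ H := fun a => hSH (hfS ▸ ⟨a, rfl⟩)
  set fH := f.codRestrict H hfH with hfH'
  have hfHi : Function.Injective fH := fun a b h => by
    have h' := congrArg Subtype.val h
    exact hfi h'
  have hfHS : fH.range = ((K.S.subtype hSH : Sylow 2 H) : Subgroup H) := by
    ext x
    rw [Sylow.coe_subtype, mem_subgroupOf, ← hfS]
    exact ⟨fun ⟨a, h⟩ => ⟨a, congrArg Subtype.val h⟩, fun ⟨a, h⟩ => ⟨a, Subtype.ext h⟩⟩
  obtain ⟨M, hM⟩ := CfsgLib.ZStar.exists_isPModular Nat.prime_two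
  obtain ⟨α, hα, -, hαle⟩ := CfsgLib.GW.klein_bounds hfi hfS rfl K.hone M hM
  obtain ⟨β, hβ, hβge, -⟩ := CfsgLib.GW.klein_bounds hfHi hfHS rfl hone M hM
  set z := f (DihedralGroup.r (CfsgLib.TwoGroups.half 1)) with hz
  have hzS : z ∈ (K.S : Subgroup G) := hfS ▸ ⟨_, rfl⟩
  have hzo : orderOf z = 2 := CfsgLib.TwoGroups.Dihedral.orderOf_half hfi le_rfl
  have hzC : centralizer ({z} : Set G) ≤ H := by
    obtain ⟨m, hm⟩ : ∃ m ∈ H, m * K.t * m⁻¹ = z := by
      obtain ⟨m, hm⟩ := isConj_iff.1 (hone ⟨K.t, hSH K.htS⟩ ⟨z, hSH hzS⟩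
        (by rw [Subgroup.orderOf_mk]; exact K.ht) (by rw [Subgroup.orderOf_mk]; exact hzo))
      exact ⟨m, m.2, congrArg Subtype.val hm⟩
    intro c hc
    have : m⁻¹ * c * m ∈ H := hCH (mem_centralizer_singleton_iff.2 (by
      have h' : c * z = z * c := mem_centralizer_singleton_iff.1 hc
      rw [← hm.2] at h'
      calc m⁻¹ * c * m * K.t = m⁻¹ * (c * (m * K.t * m⁻¹)) * m := by group
        _ = m⁻¹ * (m * K.t * m⁻¹ * c) * m := by rw [h']
        _ = K.t * (m⁻¹ * c * m) := by group))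
    have h2 := mul_mem (mul_mem hm.1 this) (inv_mem hm.1)
    rwa [show m * (m⁻¹ * c * m) * m⁻¹ = c by group] at h2
  have hc1 : Nat.card (centralizer ({fH (DihedralGroup.r (CfsgLib.TwoGroups.half 1))} : Set H)) =
      Nat.card (centralizer ({z} : Set G)) := by
    refine Nat.card_congr
      { toFun := fun x => ⟨((x : H) : G), mem_centralizer_singleton_iff.2
          (congrArg Subtype.val (mem_centralizer_singleton_iff.1 x.2))⟩
        invFun := fun x => ⟨⟨(x : G), hzC x.2⟩, mem_centralizer_singleton_iff.2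
          (Subtype.ext (mem_centralizer_singleton_iff.1 x.2))⟩
        left_inv := fun _ => rfl
        right_inv := fun _ => rfl }
  have hc2 : Nat.card (centralizer (((K.S.subtype hSH : Sylow 2 H) : Subgroup H) : Set H)) =
      Nat.card (centralizer ((K.S : Subgroup G) : Set G)) := by
    refine Nat.card_congr
      { toFun := fun x => ⟨((x : H) : G), mem_centralizer_iff.2 fun s hs =>
          congrArg Subtype.val (mem_centralizer_iff.1 x.2 ⟨s, hSH hs⟩
            (by rw [SetLike.mem_coe, Sylow.coe_subtype, mem_subgroupOf]; exact hs))⟩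
        invFun := fun x => ⟨⟨(x : G), hzC (mem_centralizer_singleton_iff.2
          (mem_centralizer_iff.1 x.2 z hzS).symm)⟩, mem_centralizer_iff.2 fun s hs => Subtype.ext
            (mem_centralizer_iff.1 x.2 (s : G) (by
              rwa [SetLike.mem_coe, Sylow.coe_subtype, mem_subgroupOf] at hs))⟩
        left_inv := fun _ => rfl
        right_inv := fun _ => rfl }
  rw [hc1, hc2] at hβ
  have hidx : (Nat.card G : ℚ) = (H.index : ℚ) * (Nat.card H : ℚ) := by
    rw [← Nat.cast_mul, H.index_mul_card]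
  have hle : H.index ≤ 5 := by
    have hpos : (0 : ℚ) < Nat.card H := Nat.cast_pos.2 Nat.card_pos
    suffices h : (H.index : ℚ) * (Nat.card H : ℚ) ≤ 5 * (Nat.card H : ℚ) by
      exact_mod_cast le_of_mul_le_mul_right h hpos
    rw [← hidx, hα, hβ, mul_div_assoc (8 * α), mul_div_assoc (8 * β)]
    have := hαle inferInstance
    nlinarith [show (0 : ℚ) ≤ (Nat.card (centralizer ({z} : Set G)) : ℚ) ^ 3 /
      (Nat.card (centralizer ((K.S : Subgroup G) : Set G)) : ℚ) ^ 2 by positivity]
  have hHtop : H ≠ ⊤ := by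
    intro h
    rw [hH, normalizer_eq_top_iff] at h
    rcases h.eq_bot_or_eq_top with e | e
    · exact hD e
    · exact involution_ne_one K.ht
        (K.eq_one_of_odd K.htS (K.mem_D.1 (e ▸ mem_top K.t)).1)
  -- the action on the cosets
  have hinj : Function.Injective (MulAction.toPermHom G (G ⧸ H)) := by
    rw [← MonoidHom.ker_eq_bot_iff, ← Subgroup.normalCore_eq_ker]
    exact (H.normalCore_normal.eq_bot_or_eq_top).resolve_right fun h =>
      hHtop (eq_top_iff.2 (h ▸ H.normalCore_le))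
  haveI := Fintype.ofFinite (G ⧸ H)
  let ι : G ⧸ H ↪ Fin 5 := (Fintype.equivFin (G ⧸ H)).toEmbedding.trans
    (Fin.castLEEmb (by rw [← Nat.card_eq_fintype_card, ← Subgroup.index_eq_card]; exact hle))
  set F : G →* Equiv.Perm (Fin 5) := (Equiv.Perm.viaEmbeddingHom ι).comp (MulAction.toPermHom G (G ⧸ H))
  have hF : Function.Injective F := (Equiv.Perm.viaEmbeddingHom_injective ι).comp hinj
  obtain ⟨d, hd, hd1⟩ := (Subgroup.bot_or_exists_ne_one K.D).resolve_left hD
  have hodd := (K.mem_D.1 hd).1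
  have hd15 : F d ^ 15 = 1 := by
    refine orderOf_dvd_iff_pow_eq_one.1 ?_
    rw [orderOf_injective F hF]
    have h120 : orderOf d ∣ 8 * 15 := by
      rw [← orderOf_injective F hF]
      have := orderOf_dvd_natCard (F d)
      rwa [Nat.card_eq_fintype_card, Fintype.card_perm, Fintype.card_fin] at this
    exact (Nat.Coprime.pow_right 3 (Nat.coprime_two_right.2 hodd) :
      Nat.Coprime (orderOf d) (2 ^ 3)).dvd_of_dvd_mul_left h120
  have hbound := perm_five_centralizer (F d) hd15 fun e => hd1 (hF (by rw [e, map_one]))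
  set Cd := centralizer ({d} : Set G)
  have h4 : 4 ∣ Nat.card Cd := by
    rw [← K.four.card_four]
    exact Subgroup.card_dvd_of_le fun s hs => mem_centralizer_singleton_iff.2 (K.comm_S hd hs).symm.eq
  have h12 : 12 ≤ Nat.card Cd := by
    have hdd : orderOf d ∣ Nat.card Cd :=
      orderOf_dvd_natCard Cd (mem_centralizer_singleton_iff.2 rfl)
    have hge : 3 ≤ orderOf d := by
      have := orderOf_pos d
      have h1 : orderOf d ≠ 1 := fun e => hd1 (orderOf_eq_one_iff.1 e)
      obtain ⟨k, hk⟩ := hodd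
      omega
    have hmul : 4 * orderOf d ∣ Nat.card Cd :=
      Nat.Coprime.mul_dvd_of_dvd_of_dvd
        ((Nat.coprime_two_left.2 hodd).pow_left 2 : Nat.Coprime (2 ^ 2) (orderOf d)) h4 hdd
    have := Nat.le_of_dvd Nat.card_pos hmul
    omega
  have hle6 : Nat.card Cd ≤ (Finset.univ.filter fun g : Equiv.Perm (Fin 5) => g * F d = F d * g).card := by
    rw [Nat.card_eq_fintype_card, ← Finset.card_univ]
    refine Finset.card_le_card_of_injOn (fun x => F x) (fun x _ => ?_)
      fun a _ b _ h => Subtype.ext (hF h)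
    simp only [Finset.coe_filter, Finset.mem_univ, true_and, Set.mem_ofPred_eq]
    rw [← map_mul, ← map_mul, mem_centralizer_singleton_iff.1 x.2]
  omega

/-- In a simple group `U` is not abelian when `D ≠ 1`. -/
theorem not_comm_U [IsSimpleGroup G] (hD : K.D ≠ ⊥) : ∃ a b : K.U, a * b ≠ b * a := by
  by_contra h
  push Not at h
  refine K.not_normal_D hD fun a ha d hd => ?_
  have := congrArg Subtype.val (h ⟨a, ha⟩ ⟨d, hd.1⟩)
  simp only [Subgroup.coe_mul] at this
  rwa [this, mul_inv_cancel_right]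

theorem mi_trivChar : K.mi (trivChar G) (K.lin 1) = 1 := by
  have h := K.mi_eq (trivChar G) (K.lin 1)
  have h1 : classInner (fun y : K.U => ((trivChar G : IrrCharacter G) : G → ℂ) (K.t * y))
      (K.lin 1 : K.U → ℂ) = classInner (K.lin 1 : K.U → ℂ) (K.lin 1 : K.U → ℂ) := by
    congr 1
  rw [h1, Char.classInner_irr_self] at h
  exact_mod_cast h.symm

theorem fix_one : K.Fix (1 : K.U →* ℂˣ) := fun _ => rfl

variable [Fintype (IrrCharacter G)]

/-- A non-trivial character linear on the section of `t` has degree at least seven. -/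
theorem seven_le_degree [IsSimpleGroup G] (hD : K.D ≠ ⊥) {l : K.U →* ℂˣ}
    (χ : IrrCharacter G) (hχ1 : χ ≠ trivChar G) (hχ : K.mi χ (K.lin l) ≠ 0)
    (honly : ∀ θ : IrrCharacter K.U, K.mi χ θ ≠ 0 → (θ : K.U → ℂ) 1 = 1) :
    7 ≤ charDegree (χ : G → ℂ) := by
  have := Fintype.ofFinite (IrrCharacter K.U)
  have hres : ∀ y : K.U, (χ : G → ℂ) y =
      ∑ θ : IrrCharacter K.U, ((K.pos χ θ + K.neg χ θ : ℕ) : ℂ) * (θ : K.U → ℂ) y := by
    intro y
    rw [classFunction_apply_eq_sum (θ := fun y : K.U => (χ : G → ℂ) y)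
      (IsChar.isClassFunction (IsChar.restrict K.U (IsIrr.isCharacter χ.2))) y]
    exact Finset.sum_congr rfl fun θ _ => by rw [K.ni_eq]
  obtain ⟨θ, hθn, hθ1⟩ : ∃ θ : IrrCharacter K.U,
      K.pos χ θ + K.neg χ θ ≠ 0 ∧ (θ : K.U → ℂ) 1 ≠ 1 := by
    by_contra hc
    push Not at hc
    obtain ⟨a, b, hab⟩ := K.not_comm_U hD
    set y : K.U := a * b * a⁻¹ * b⁻¹ with hy
    have hy1 : y ≠ 1 := fun e => hab (by
      rw [hy, mul_inv_eq_one, mul_inv_eq_iff_eq_mul] at e
      exact e)
    have hval : (χ : G → ℂ) (y : G) = (χ : G → ℂ) 1 := by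
      rw [← OneMemClass.coe_one K.U, hres y, hres 1]
      refine Finset.sum_congr rfl fun θ _ => ?_
      rcases eq_or_ne (K.pos χ θ + K.neg χ θ) 0 with h0 | h0
      · rw [h0, Nat.cast_zero, zero_mul, zero_mul]
      · obtain ⟨lam, hlam⟩ := exists_linear_of_degree_one (IsIrr.isCharacter θ.2) (hc θ h0)
        congr 1
        have hl1 : lam y = 1 := by
          rw [hy, map_mul, map_mul, map_mul, map_inv, map_inv]
          simp [mul_comm (lam a) (lam b)]
        simp only [hlam, hl1, map_one]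
    have hker : (y : G) ∈ CharDegree.kerSubgroup χ := (CharDegree.mem_kerSubgroup).2 hval
    rcases (CharDegree.kerSubgroup_normal χ).eq_bot_or_eq_top with e | e
    · rw [e, Subgroup.mem_bot] at hker
      exact hy1 (Subtype.ext hker)
    · refine hχ1 (irr_ext fun g => ?_)
      have hall : ∀ g, (χ : G → ℂ) g = (χ : G → ℂ) 1 := fun g =>
        (CharDegree.mem_kerSubgroup).1 (e ▸ mem_top g)
      have hi := Char.classInner_irr χ (trivChar G)
      by_cases hct : χ = trivChar G
      · exact absurd hct hχ1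
      · exfalso
        rw [if_neg hct, classInner] at hi
        simp only [hall, trivChar_apply, map_one, mul_one, Finset.sum_const, Finset.card_univ,
          ← Nat.card_eq_fintype_card, nsmul_eq_mul, ← mul_assoc,
          inv_mul_cancel₀ (Nat.cast_ne_zero.2 (Nat.card_pos (α := G)).ne' : (Nat.card G : ℂ) ≠ 0),
          one_mul] at hi
        exact Char.IsIrr.apply_one_ne_zero χ.2 hi
  have hdeg : charDegree (χ : G → ℂ) =
      ∑ η : IrrCharacter K.U, (K.pos χ η + K.neg χ η) * charDegree (η : K.U → ℂ) := by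
    have h := hres 1
    rw [OneMemClass.coe_one, apply_one_eq_charDegree] at h
    simp only [apply_one_eq_charDegree] at h
    exact_mod_cast h
  have hlθ : K.lin l ≠ θ := fun e => hθ1 (by rw [← e, K.lin_apply, map_one, Units.val_one])
  have hm0 : K.mi χ θ = 0 := not_not.1 fun h => hθ1 (honly θ h)
  have hd3 : 3 ≤ charDegree (θ : K.U → ℂ) := by
    obtain ⟨k, hk⟩ := K.hUodd.of_dvd_nat (CfsgLib.CharDegree.charDegree_dvd_card θ)
    have hne : charDegree (θ : K.U → ℂ) ≠ 1 := fun e => hθ1 (by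
      rw [apply_one_eq_charDegree, e, Nat.cast_one])
    omega
  have hle := Finset.sum_le_sum_of_subset (Finset.subset_univ {K.lin l, θ})
    (f := fun η : IrrCharacter K.U => (K.pos χ η + K.neg χ η) * charDegree (η : K.U → ℂ))
  rw [Finset.sum_pair hlθ, ← hdeg] at hle
  have h1 : 1 ≤ charDegree (K.lin l : K.U → ℂ) := charDegree_pos _
  have h2 : 1 ≤ K.pos χ (K.lin l) + K.neg χ (K.lin l) := by
    rw [mi] at hχ; omega
  have h3 : 2 ≤ K.pos χ θ + K.neg χ θ := by rw [mi] at hm0; omega
  nlinarith [Nat.mul_le_mul h3 hd3, Nat.mul_le_mul h2 h1]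

end Kl

end CfsgLib.GW.Two.Lin
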