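import Cfsg.Agent.Lib.GW.Two.Linear.Setup
import Cfsg.Agent.Lib.GW.Two.Linear.Cong
import Cfsg.Agent.Lib.Blocks.KleinIsometry.Divide

/-!
# Multiplicities on the section of an involution

`mi χ θ` is the multiplicity of `θ` in `y ↦ χ (t y)` on `U`.
-/

set_option autoImplicit false

namespace CfsgLib.GW.Two.Lin

open Subgroup Cfsg CfsgLib.Char CfsgLib.CharAction CfsgLib.Blocks
open scoped ComplexConjugate Classical
open CfsgLib.Signalizer (involution_sq involution_inv involution_ne_one)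

universe v

namespace Kl

variable {G : Type v} [Group G] [Fintype G] (K : Kl G)

theorem exists_signs (χ : IrrCharacter G) (θ : IrrCharacter K.U) :
    ∃ a b : ℕ, classInner (fun y : K.U => (χ : G → ℂ) (K.t * y)) (θ : K.U → ℂ) = (a : ℂ) - b ∧
      classInner (fun y : K.U => (χ : G → ℂ) y) (θ : K.U → ℂ) = (a : ℂ) + b := by
  set C := centralizer ({K.t} : Set G)
  have := Fintype.ofFinite (IrrCharacter C)
  obtain ⟨n, w, -, hw, hres, htw⟩ := CfsgLib.KleinIso.exists_twisted_decomposition χ K.t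
  choose k hk using fun ψ : IrrCharacter C => IsChar.classInner_eq_natCast
    (IsChar.comp (Subgroup.inclusion K.hUC) (IsIrr.isCharacter ψ.2)) (IsIrr.isCharacter θ.2)
  have h1 : classInner (fun y : K.U => (χ : G → ℂ) (K.t * y)) (θ : K.U → ℂ) =
      ∑ ψ, (n ψ : ℂ) * w ψ * k ψ := by
    simp only [← hk, classInner, Finset.mul_sum]
    rw [Finset.sum_comm]
    refine Finset.sum_congr rfl fun y _ => ?_
    rw [show K.t * (y : G) = K.t * ((Subgroup.inclusion K.hUC y : C) : G) from rfl, htw,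
      Finset.sum_mul, Finset.mul_sum]
    exact Finset.sum_congr rfl fun ψ _ => by ring
  have h2 : classInner (fun y : K.U => (χ : G → ℂ) y) (θ : K.U → ℂ) = ∑ ψ, (n ψ : ℂ) * k ψ := by
    simp only [← hk, classInner, Finset.mul_sum]
    rw [Finset.sum_comm]
    refine Finset.sum_congr rfl fun y _ => ?_
    rw [show (y : G) = ((Subgroup.inclusion K.hUC y : C) : G) from rfl, hres,
      Finset.sum_mul, Finset.mul_sum]
    exact Finset.sum_congr rfl fun ψ _ => by ring
  refine ⟨∑ ψ ∈ Finset.univ.filter (fun ψ => w ψ = 1), n ψ * k ψ,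
    ∑ ψ ∈ Finset.univ.filter (fun ψ => ¬ w ψ = 1), n ψ * k ψ, ?_, ?_⟩
  · rw [h1, ← Finset.sum_filter_add_sum_filter_not Finset.univ (fun ψ => w ψ = 1)]
    push_cast
    rw [sub_eq_add_neg]
    congr 1
    · exact Finset.sum_congr rfl fun ψ hψ => by rw [(Finset.mem_filter.1 hψ).2]; ring
    · rw [← Finset.sum_neg_distrib]
      exact Finset.sum_congr rfl fun ψ hψ => by
        rw [(hw ψ K.ht).resolve_left (Finset.mem_filter.1 hψ).2]; ring
  · rw [h2, ← Finset.sum_filter_add_sum_filter_not Finset.univ (fun ψ => w ψ = 1)]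
    push_cast
    rfl

/-- Multiplicity of `θ` in the `+1` eigenspace of `t`. -/
noncomputable def pos (χ : IrrCharacter G) (θ : IrrCharacter K.U) : ℕ := (K.exists_signs χ θ).choose

/-- Multiplicity of `θ` in the `-1` eigenspace of `t`. -/
noncomputable def neg (χ : IrrCharacter G) (θ : IrrCharacter K.U) : ℕ :=
  (K.exists_signs χ θ).choose_spec.choose

/-- The signed multiplicity of `θ`. -/
noncomputable def mi (χ : IrrCharacter G) (θ : IrrCharacter K.U) : ℤ :=
  (K.pos χ θ : ℤ) - K.neg χ θ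

theorem mi_eq (χ : IrrCharacter G) (θ : IrrCharacter K.U) :
    classInner (fun y : K.U => (χ : G → ℂ) (K.t * y)) (θ : K.U → ℂ) = (K.mi χ θ : ℂ) := by
  rw [(K.exists_signs χ θ).choose_spec.choose_spec.1, mi]
  push_cast
  rfl

theorem ni_eq (χ : IrrCharacter G) (θ : IrrCharacter K.U) :
    classInner (fun y : K.U => (χ : G → ℂ) y) (θ : K.U → ℂ) =
      ((K.pos χ θ + K.neg χ θ : ℕ) : ℂ) := by
  rw [(K.exists_signs χ θ).choose_spec.choose_spec.2]
  push_cast
  rfl

theorem cong_mi_ni (χ : IrrCharacter G) (θ : IrrCharacter K.U) :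
    Cong (K.mi χ θ : ℂ) (classInner (fun y : K.U => (χ : G → ℂ) y) (θ : K.U → ℂ)) := by
  rw [K.ni_eq, ← Int.cast_natCast (K.pos χ θ + K.neg χ θ), cong_intCast, mi]
  exact ⟨-(K.neg χ θ : ℤ), by push_cast; ring⟩

/-- Conjugation by `u` on `U`. -/
def conjU : K.U →* K.U where
  toFun y := ⟨K.u * y * K.u⁻¹, K.conj_u_mem y.2⟩
  map_one' := Subtype.ext (by simp)
  map_mul' a b := Subtype.ext (by simp [mul_assoc])

theorem conjU_conjU (y : K.U) : K.conjU (K.conjU y) = y := Subtype.ext (by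
  show K.u * (K.u * y * K.u⁻¹) * K.u⁻¹ = y
  rw [involution_inv K.hu, show K.u * (K.u * (y : G) * K.u) * K.u = K.u * K.u * y * (K.u * K.u) by group,
    involution_sq K.hu, one_mul, mul_one])

/-- `conjU` as a permutation. -/
def conjPerm : K.U ≃ K.U := ⟨K.conjU, K.conjU, K.conjU_conjU, K.conjU_conjU⟩

/-- The twist of a character of `U` by `u`. -/
noncomputable def tw (θ : IrrCharacter K.U) : IrrCharacter K.U :=
  ⟨fun y => (θ : K.U → ℂ) (K.conjU y),
    IsIrr.comp_surjective K.conjU (fun y => ⟨K.conjU y, K.conjU_conjU y⟩) θ.2⟩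

theorem tw_apply (θ : IrrCharacter K.U) (y : K.U) :
    (K.tw θ : K.U → ℂ) y = (θ : K.U → ℂ) (K.conjU y) := rfl

theorem tw_tw (θ : IrrCharacter K.U) : K.tw (K.tw θ) = θ :=
  irr_ext fun y => by rw [tw_apply, tw_apply, conjU_conjU]

/-- A linear character of `U`. -/
def lin (l : K.U →* ℂˣ) : IrrCharacter K.U := ⟨fun y => (l y : ℂ), isIrrCharacter_linear l⟩

theorem lin_apply (l : K.U →* ℂˣ) (y : K.U) : (K.lin l : K.U → ℂ) y = (l y : ℂ) := rfl

/-- A linear character fixed by `u`. -/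
def Fix (l : K.U →* ℂˣ) : Prop := ∀ y, l (K.conjU y) = l y

theorem tw_lin {l : K.U →* ℂˣ} (hl : K.Fix l) : K.tw (K.lin l) = K.lin l :=
  irr_ext fun y => by rw [tw_apply, lin_apply, lin_apply, hl y]

theorem conj_apply_U {χ : IrrCharacter G} (y : K.U) :
    (χ : G → ℂ) (K.t * (K.conjU y : G)) = (χ : G → ℂ) (K.t * y) := by
  rw [show K.t * (K.conjU y : G) = K.u * (K.t * y) * K.u⁻¹ by
    show K.t * (K.u * (y : G) * K.u⁻¹) = _
    rw [← mul_assoc, ← mul_assoc, K.comm_tu.eq]; group]
  exact IsIrr.isClassFunction χ.2 _ _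

theorem mi_tw (χ : IrrCharacter G) (θ : IrrCharacter K.U) : K.mi χ (K.tw θ) = K.mi χ θ := by
  have h : classInner (fun y : K.U => (χ : G → ℂ) (K.t * y)) (K.tw θ : K.U → ℂ) =
      classInner (fun y : K.U => (χ : G → ℂ) (K.t * y)) (θ : K.U → ℂ) := by
    unfold classInner
    congr 1
    refine Fintype.sum_equiv K.conjPerm _ _ fun y => ?_
    show _ = (χ : G → ℂ) (K.t * (K.conjU y : G)) * _
    rw [K.conj_apply_U]
    rfl
  rw [K.mi_eq, K.mi_eq] at h
  exact_mod_cast h

theorem isClassFunction_section (χ : IrrCharacter G) :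
    IsClassFunction K.U (fun y : K.U => (χ : G → ℂ) (K.t * y)) := fun y c => by
  show (χ : G → ℂ) (K.t * ((c : G) * y * (c : G)⁻¹)) = _
  rw [show K.t * ((c : G) * y * (c : G)⁻¹) = (c : G) * (K.t * y) * (c : G)⁻¹ by
    rw [← mul_assoc, ← mul_assoc, ← (K.comm_U c.2).eq]; group]
  exact IsIrr.isClassFunction χ.2 _ _

/-- The values on the section of `t`. -/
theorem apply_section [Fintype (IrrCharacter K.U)] (χ : IrrCharacter G) (y : K.U) :
    (χ : G → ℂ) (K.t * y) = ∑ θ : IrrCharacter K.U, (K.mi χ θ : ℂ) * (θ : K.U → ℂ) y := by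
  rw [classFunction_apply_eq_sum (θ := fun y : K.U => (χ : G → ℂ) (K.t * y))
    (K.isClassFunction_section χ) y]
  exact Finset.sum_congr rfl fun θ _ => by rw [K.mi_eq]

theorem not_two_dvd_orderOf (y : K.U) :
    ¬ 2 ∣ orderOf (Subgroup.inclusion K.hUC y : centralizer ({K.t} : Set G)) := fun h => by
  rw [← Subgroup.orderOf_coe, Subgroup.coe_inclusion] at h
  exact Nat.not_even_iff_odd.2 (K.odd_of_mem y.2) (even_iff_two_dvd.2 h)

theorem not_isConj_one (z : K.U) : ¬ IsConj (1 : G) (K.t * z) := fun h => by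
  have h1 : K.t * (z : G) = 1 := isConj_one_right.1 h
  have h2 := inv_eq_of_mul_eq_one_right h1
  rw [involution_inv K.ht] at h2
  exact involution_ne_one K.ht (K.eq_one_of_mem K.htS (h2 ▸ z.2))

variable [Fintype (IrrCharacter G)]

/-- The degrees are orthogonal to the signed multiplicities. -/
theorem sum_degree_mi (θ : IrrCharacter K.U) :
    ∑ χ : IrrCharacter G, (charDegree (χ : G → ℂ) : ℤ) * K.mi χ θ = 0 := by
  have h : ((∑ χ : IrrCharacter G, (charDegree (χ : G → ℂ) : ℤ) * K.mi χ θ : ℤ) : ℂ) = 0 := by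
    push_cast
    simp only [← K.mi_eq, classInner, Finset.mul_sum]
    rw [Finset.sum_comm]
    refine Finset.sum_eq_zero fun y _ => ?_
    have hc := column_orthogonality (1 : G) (K.t * (y : G))
    rw [if_neg (K.not_isConj_one y)] at hc
    have hc' := congrArg conj hc
    simp only [map_sum, map_mul, Complex.conj_conj, map_zero, apply_one_eq_charDegree, map_natCast]
      at hc'
    calc _ = ((Nat.card K.U : ℂ)⁻¹ * conj ((θ : K.U → ℂ) y)) *
          ∑ χ : IrrCharacter G, (charDegree (χ : G → ℂ) : ℂ) * (χ : G → ℂ) (K.t * y) := by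
          rw [Finset.mul_sum]; exact Finset.sum_congr rfl fun χ _ => by ring
      _ = 0 := by rw [hc', mul_zero]
  exact_mod_cast h

/-- Orthogonality of the signed multiplicities. -/
theorem sum_mi_mul_mi (θ θ' : IrrCharacter K.U) :
    ∑ χ : IrrCharacter G, K.mi χ θ * K.mi χ θ' =
      2 * (if θ' = θ then 1 else 0) + 2 * (if θ' = K.tw θ then 1 else 0) := by
  set C := centralizer ({K.t} : Set G)
  have : Fact (Nat.Prime 2) := ⟨Nat.prime_two⟩
  have hx : ∃ k : ℕ, orderOf K.t = 2 ^ k := ⟨1, by rw [K.ht, pow_one]⟩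
  set T : K.U → ℂ := fun y => (θ' : K.U → ℂ) y with hT
  have hcol : ∀ y : K.U, ∑ z : K.U, T z *
      ∑ χ : IrrCharacter G, (χ : G → ℂ) (K.t * y) * conj ((χ : G → ℂ) (K.t * z)) =
      (Nat.card K.U : ℂ) * (2 * T y + 2 * T (K.conjU y)) := by
    intro y
    have hz : ∀ z : K.U, ∑ χ : IrrCharacter G, (χ : G → ℂ) (K.t * y) * conj ((χ : G → ℂ) (K.t * z)) =
        ((Finset.univ.filter fun c : C => (c : G) * y * (c : G)⁻¹ = z).card : ℂ) := by
      intro z
      rw [column_orthogonality, show (Finset.univ.filter fun c : C => (c : G) * y * (c : G)⁻¹ = z) =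
        Finset.univ.filter fun c : C =>
          c * Subgroup.inclusion K.hUC y * c⁻¹ = Subgroup.inclusion K.hUC z from
        Finset.filter_congr fun c _ => by rw [Subtype.ext_iff]; rfl]
      exact (CfsgLib.Blocks.card_conj_eq_centralizer (p := 2) hx (K.not_two_dvd_orderOf y)
        (K.not_two_dvd_orderOf z)).symm
    let Te : G → ℂ := extendByZero K.U T
    have hTe : ∀ {x : G} (h : x ∈ K.U), Te x = T ⟨x, h⟩ := fun h => extendByZero_of_mem K.U T h
    have hconj : ∀ c : C, (c : G) * y * (c : G)⁻¹ ∈ K.U := fun c =>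
      K.conj_mem_U (mem_centralizer_singleton_iff.1 c.2) y.2
    calc ∑ z : K.U, T z * ∑ χ : IrrCharacter G, (χ : G → ℂ) (K.t * y) * conj ((χ : G → ℂ) (K.t * z))
        = ∑ c : C, Te ((c : G) * y * (c : G)⁻¹) := by
          rw [← Finset.sum_fiberwise_of_maps_to (g := fun c : C => (⟨_, hconj c⟩ : K.U))
            (t := Finset.univ) (fun _ _ => Finset.mem_univ _)]
          refine Finset.sum_congr rfl fun z _ => ?_
          rw [hz, Finset.sum_congr rfl (g := fun _ => T z) fun c hc => ?_, Finset.sum_const,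
            nsmul_eq_mul, mul_comm]
          · congr 3
            exact Finset.filter_congr fun c _ => by rw [Subtype.ext_iff]
          · rw [hTe (hconj c), (Finset.mem_filter.1 hc).2]
      _ = _ := by
          rw [K.sum_centralizer (fun c => Te (c * y * c⁻¹)), Nat.card_eq_fintype_card,
            ← Finset.card_univ, ← nsmul_eq_mul, ← Finset.sum_const]
          refine Finset.sum_congr rfl fun a _ => ?_
          have hcl : ∀ w : K.U, Te ((a : G) * w * (a : G)⁻¹) = T w := fun w => by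
            rw [hTe (mul_mem (mul_mem a.2 w.2) (inv_mem a.2))]
            exact IsIrr.isClassFunction θ'.2 w a
          have e1 : (a : G) * K.t * y * ((a : G) * K.t)⁻¹ = a * y * (a : G)⁻¹ := by
            rw [show (a : G) * K.t * y * ((a : G) * K.t)⁻¹ = a * (K.t * y * K.t⁻¹) * (a : G)⁻¹ by group,
              ← (K.comm_U y.2).eq, mul_inv_cancel_right]
          have e2 : (a : G) * K.u * y * ((a : G) * K.u)⁻¹ = a * (K.conjU y : G) * (a : G)⁻¹ := by
            show _ = (a : G) * (K.u * y * K.u⁻¹) * (a : G)⁻¹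
            group
          have e3 : (a : G) * (K.t * K.u) * y * ((a : G) * (K.t * K.u))⁻¹ =
              a * (K.conjU y : G) * (a : G)⁻¹ := by
            rw [show (a : G) * (K.t * K.u) * y * ((a : G) * (K.t * K.u))⁻¹ =
              a * (K.t * (K.conjU y : G) * K.t⁻¹) * (a : G)⁻¹ by
              show _ = (a : G) * (K.t * (K.u * y * K.u⁻¹) * K.t⁻¹) * (a : G)⁻¹
              group, ← (K.comm_U (K.conjU y).2).eq, mul_inv_cancel_right]
          simp only [e1, e2, e3, hcl]
          ring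
  have h : ((∑ χ : IrrCharacter G, K.mi χ θ * K.mi χ θ' : ℤ) : ℂ) =
      ((2 * (if θ' = θ then 1 else 0) + 2 * (if θ' = K.tw θ then 1 else 0) : ℤ) : ℂ) := by
    have hconjm : ∀ χ, (K.mi χ θ' : ℂ) =
        conj (classInner (fun y : K.U => (χ : G → ℂ) (K.t * y)) (θ' : K.U → ℂ)) := fun χ => by
      rw [K.mi_eq, map_intCast]
    have hU0 : (Nat.card K.U : ℂ) ≠ 0 := Nat.cast_ne_zero.2 Nat.card_pos.ne'
    calc ((∑ χ : IrrCharacter G, K.mi χ θ * K.mi χ θ' : ℤ) : ℂ)
        = ∑ χ : IrrCharacter G, classInner (fun y : K.U => (χ : G → ℂ) (K.t * y)) (θ : K.U → ℂ) *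
            conj (classInner (fun y : K.U => (χ : G → ℂ) (K.t * y)) (θ' : K.U → ℂ)) := by
          push_cast
          exact Finset.sum_congr rfl fun χ _ => by rw [← hconjm, K.mi_eq]
      _ = ((Nat.card K.U : ℂ)⁻¹ * (Nat.card K.U : ℂ)⁻¹) * ∑ y : K.U, conj ((θ : K.U → ℂ) y) *
            ∑ z : K.U, T z *
              ∑ χ : IrrCharacter G, (χ : G → ℂ) (K.t * y) * conj ((χ : G → ℂ) (K.t * z)) := by
          simp only [classInner, map_mul, map_inv₀, map_natCast, map_sum, Complex.conj_conj,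
            Finset.mul_sum, Finset.sum_mul, hT]
          rw [Finset.sum_comm]
          refine ((Finset.sum_congr rfl fun z _ => Finset.sum_comm).trans Finset.sum_comm).trans ?_
          exact Finset.sum_congr rfl fun _ _ => Finset.sum_congr rfl fun _ _ =>
            Finset.sum_congr rfl fun _ _ => by ring
      _ = 2 * classInner (θ' : K.U → ℂ) (θ : K.U → ℂ) +
            2 * classInner (K.tw θ' : K.U → ℂ) (θ : K.U → ℂ) := by
          simp only [hcol]
          simp only [hT, classInner, tw_apply, Finset.mul_sum, ← Finset.sum_add_distrib]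
          refine Finset.sum_congr rfl fun y _ => ?_
          field_simp
      _ = _ := by
          rw [classInner_irr, classInner_irr]
          have he : K.tw θ' = θ ↔ θ' = K.tw θ :=
            ⟨fun e => by rw [← e, K.tw_tw], fun e => by rw [e, K.tw_tw]⟩
          simp only [he]
          push_cast
          rfl
  exact_mod_cast h

theorem sum_mi_sq (θ : IrrCharacter K.U) :
    ∑ χ : IrrCharacter G, K.mi χ θ * K.mi χ θ = if K.tw θ = θ then 4 else 2 := by
  rw [K.sum_mi_mul_mi, if_pos rfl]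
  by_cases h : K.tw θ = θ
  · rw [if_pos h.symm, if_pos h]; norm_num
  · rw [if_neg (Ne.symm h), if_neg h]; norm_num

/-- The signed multiplicities are signs. -/
theorem mi_cases (χ : IrrCharacter G) (θ : IrrCharacter K.U) :
    K.mi χ θ = 0 ∨ K.mi χ θ = 1 ∨ K.mi χ θ = -1 := by
  by_contra hc
  push Not at hc
  have hbig : 2 ≤ |K.mi χ θ| := by
    rcases le_or_gt 0 (K.mi χ θ) with h | h
    · rw [abs_of_nonneg h]; omega
    · rw [abs_of_neg h]; omega
  have h4 : 4 ≤ K.mi χ θ * K.mi χ θ := by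
    rw [← abs_mul_abs_self (K.mi χ θ)]
    nlinarith
  have hle : ∑ ψ : IrrCharacter G, K.mi ψ θ * K.mi ψ θ ≤ 4 := by
    rw [K.sum_mi_sq]; split <;> norm_num
  have hzero : ∀ ψ, ψ ≠ χ → K.mi ψ θ = 0 := fun ψ hψ => by
    have h := Finset.sum_le_sum_of_subset_of_nonneg (s := {χ, ψ}) (Finset.subset_univ _)
      (f := fun φ : IrrCharacter G => K.mi φ θ * K.mi φ θ) (fun φ _ _ => mul_self_nonneg _)
    rw [Finset.sum_pair hψ.symm] at h
    have h0 : K.mi ψ θ * K.mi ψ θ = 0 := by nlinarith [mul_self_nonneg (K.mi ψ θ)]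
    exact mul_self_eq_zero.1 h0
  have hd := K.sum_degree_mi θ
  rw [Finset.sum_eq_single χ (fun ψ _ hψ => by rw [hzero ψ hψ, mul_zero]) (by simp)] at hd
  rcases mul_eq_zero.1 hd with h | h
  · exact (charDegree_pos χ).ne' (by exact_mod_cast h)
  · exact hc.1 h

/-- The characters meeting `θ` on the section of `t`. -/
noncomputable def supp (θ : IrrCharacter K.U) : Finset (IrrCharacter G) :=
  Finset.univ.filter fun χ => K.mi χ θ ≠ 0

theorem mem_supp {θ : IrrCharacter K.U} {χ : IrrCharacter G} : χ ∈ K.supp θ ↔ K.mi χ θ ≠ 0 := by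
  simp [supp]

theorem card_supp (θ : IrrCharacter K.U) :
    ((K.supp θ).card : ℤ) = if K.tw θ = θ then 4 else 2 := by
  rw [← K.sum_mi_sq θ, Finset.card_eq_sum_ones, Nat.cast_sum, supp, Finset.sum_filter]
  refine Finset.sum_congr rfl fun χ _ => ?_
  rcases K.mi_cases χ θ with h | h | h <;> simp [h]

end Kl

end CfsgLib.GW.Two.Lin
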