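import Cfsg.Agent.Lib.Blocks.KleinBlock
import Cfsg.Agent.Lib.Signalizer.Involutions

/-!
# Groups with a Klein four Sylow 2-subgroup: the centraliser of an involution
-/

set_option autoImplicit false

namespace CfsgLib.GW.Two.Lin

open Subgroup
open CfsgLib.Signalizer (involution_sq involution_inv involution_ne_one orderOf_eq_two_of orderOf_conj)

universe v

/-- A Klein four Sylow 2-subgroup `{1, t, u, tu}`, one class of involutions, and `U = O(C(t))`. -/
structure Kl (G : Type v) [Group G] where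
  S : Sylow 2 G
  four : IsKleinFour (S : Subgroup G)
  hone : ∀ a b : G, orderOf a = 2 → orderOf b = 2 → IsConj a b
  t : G
  u : G
  htS : t ∈ (S : Subgroup G)
  huS : u ∈ (S : Subgroup G)
  ht : orderOf t = 2
  hu : orderOf u = 2
  htu : t ≠ u
  U : Subgroup G
  hUC : U ≤ centralizer ({t} : Set G)
  hUodd : Odd (Nat.card U)
  hUmax : ∀ y, Commute y t → Odd (orderOf y) → y ∈ U

namespace Kl

variable {G : Type v} [Group G] [Fintype G] (K : Kl G)

/-- The fixed points of `u` on `U`. -/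
def D : Subgroup G := K.U ⊓ centralizer ({K.u} : Set G)

theorem comm_U {y : G} (hy : y ∈ K.U) : Commute y K.t :=
  mem_centralizer_singleton_iff.1 (K.hUC hy)

theorem comm_tu : Commute K.t K.u :=
  CfsgLib.Blocks.commute_of_mem_klein K.S K.four K.htS K.huS

theorem order_v : orderOf (K.t * K.u) = 2 :=
  CfsgLib.Blocks.orderOf_eq_two_of_mem_klein K.S K.four (mul_mem K.htS K.huS) fun e =>
    K.htu ((eq_inv_of_mul_eq_one_left e).trans (involution_inv K.hu))

theorem S_cases {x : G} (hx : x ∈ (K.S : Subgroup G)) :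
    x = 1 ∨ x = K.t ∨ x = K.u ∨ x = K.t * K.u :=
  CfsgLib.TwoGroups.klein_cases K.four K.htS K.huS (involution_ne_one K.ht) (involution_ne_one K.hu)
    K.htu hx

theorem eq_one_of_odd {x : G} (hx : x ∈ (K.S : Subgroup G)) (ho : Odd (orderOf x)) : x = 1 := by
  by_contra h
  rw [CfsgLib.Blocks.orderOf_eq_two_of_mem_klein K.S K.four hx h] at ho
  exact absurd ho (by decide)

theorem odd_of_mem {y : G} (hy : y ∈ K.U) : Odd (orderOf y) :=
  K.hUodd.of_dvd_nat (orderOf_dvd_natCard K.U hy)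

theorem eq_one_of_mem {x : G} (hx : x ∈ (K.S : Subgroup G)) (hU : x ∈ K.U) : x = 1 :=
  K.eq_one_of_odd hx (K.odd_of_mem hU)

theorem conj_mem_U {c y : G} (hc : Commute c K.t) (hy : y ∈ K.U) : c * y * c⁻¹ ∈ K.U := by
  refine K.hUmax _ ((hc.mul_left (K.comm_U hy)).mul_left hc.inv_left) ?_
  rw [orderOf_conj]; exact K.odd_of_mem hy

theorem conj_u_mem {y : G} (hy : y ∈ K.U) : K.u * y * K.u⁻¹ ∈ K.U :=
  K.conj_mem_U K.comm_tu.symm hy

theorem mem_D {x : G} : x ∈ K.D ↔ Odd (orderOf x) ∧ Commute x K.t ∧ Commute x K.u :=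
  ⟨fun h => ⟨K.odd_of_mem h.1, K.comm_U h.1, mem_centralizer_singleton_iff.1 h.2⟩,
    fun h => ⟨K.hUmax x h.2.1 h.1, mem_centralizer_singleton_iff.2 h.2.2⟩⟩

theorem comm_S {x : G} (hx : x ∈ K.D) {s : G} (hs : s ∈ (K.S : Subgroup G)) : Commute x s := by
  obtain ⟨-, h1, h2⟩ := K.mem_D.1 hx
  rcases K.S_cases hs with rfl | rfl | rfl | rfl
  · exact Commute.one_right x
  · exact h1
  · exact h2
  · exact h1.mul_right h2

/-- The Klein four group as a transversal. -/
def rep (i j : Bool) : G := (if i then K.t else 1) * (if j then K.u else 1)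

theorem rep_mem (i j : Bool) : K.rep i j ∈ (K.S : Subgroup G) := by
  unfold rep
  refine mul_mem ?_ ?_ <;> split
  exacts [K.htS, one_mem _, K.huS, one_mem _]

theorem rep_inj {i j i' j' : Bool} (h : K.rep i j = K.rep i' j') : i = i' ∧ j = j' := by
  have h1 := involution_ne_one K.ht
  have h2 := involution_ne_one K.hu
  have h3 := involution_ne_one K.order_v
  have h4 := K.htu
  have h5 : K.t * K.u ≠ K.t := fun e => h2 (mul_eq_left.1 e)
  have h6 : K.t * K.u ≠ K.u := fun e => h1 (mul_eq_right.1 e)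
  revert h
  cases i <;> cases j <;> cases i' <;> cases j' <;>
    simp [rep, h1, h2, h3, h4, h5, h6, Ne.symm h1, Ne.symm h2, Ne.symm h3, Ne.symm h4, Ne.symm h5,
      Ne.symm h6]

theorem rep_comm (i j : Bool) : Commute (K.rep i j) K.t :=
  CfsgLib.Blocks.commute_of_mem_klein K.S K.four (K.rep_mem i j) K.htS

/-- `C(t) = U S`. -/
def split (q : K.U × Bool × Bool) : centralizer ({K.t} : Set G) :=
  ⟨(q.1 : G) * K.rep q.2.1 q.2.2, mem_centralizer_singleton_iff.2
    ((K.comm_U q.1.2).mul_left (K.rep_comm _ _))⟩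

theorem card_centralizer : Nat.card (centralizer ({K.t} : Set G)) = 4 * Nat.card K.U := by
  obtain ⟨N, hN, -, hindex, hmem⟩ :=
    CfsgLib.Blocks.exists_complement_centralizer K.S K.four K.htS K.ht
  have hmap : N.map (centralizer ({K.t} : Set G)).subtype = K.U := by
    ext x
    constructor
    · rintro ⟨y, hy, rfl⟩
      refine K.hUmax _ (mem_centralizer_singleton_iff.1 y.2) ?_
      have := (hmem y).2 hy
      rw [← Subgroup.orderOf_coe] at this
      exact Nat.odd_iff.2 (Nat.two_dvd_ne_zero.1 this)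
    · intro hx
      refine ⟨⟨x, K.hUC hx⟩, (hmem _).1 ?_, rfl⟩
      rw [Subgroup.orderOf_mk]
      exact fun h => Nat.not_even_iff_odd.2 (K.odd_of_mem hx) (even_iff_two_dvd.2 h)
  rw [← N.card_mul_index, hindex, ← hmap,
    card_map_of_injective (centralizer ({K.t} : Set G)).subtype_injective]
  ring

theorem split_bijective : Function.Bijective K.split := by
  classical
  refine (Fintype.bijective_iff_injective_and_card _).2 ⟨?_, ?_⟩
  · rintro ⟨a, i, j⟩ ⟨a', i', j'⟩ e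
    have e' : (a : G) * K.rep i j = a' * K.rep i' j' := congrArg Subtype.val e
    have h1 : (a' : G)⁻¹ * a = K.rep i' j' * (K.rep i j)⁻¹ := by
      rw [eq_mul_inv_iff_mul_eq, mul_assoc, e', inv_mul_cancel_left]
    have h2 := K.eq_one_of_mem (h1 ▸ mul_mem (K.rep_mem i' j') (inv_mem (K.rep_mem i j)))
      (mul_mem (inv_mem a'.2) a.2)
    rw [h2] at h1
    obtain ⟨rfl, rfl⟩ := K.rep_inj (mul_inv_eq_one.1 h1.symm).symm
    rw [inv_mul_eq_one] at h2
    exact Prod.ext (Subtype.ext h2.symm) rfl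
  · rw [← Nat.card_eq_fintype_card, ← Nat.card_eq_fintype_card, K.card_centralizer, Nat.card_prod,
      Nat.card_prod, Nat.card_eq_fintype_card (α := Bool), Fintype.card_bool]
    ring

theorem exists_split {c : G} (hc : Commute c K.t) :
    ∃ a ∈ K.U, ∃ i j, c = a * K.rep i j := by
  obtain ⟨⟨a, i, j⟩, h⟩ := K.split_bijective.2 ⟨c, mem_centralizer_singleton_iff.2 hc⟩
  exact ⟨a, a.2, i, j, (congrArg Subtype.val h).symm⟩

theorem sum_centralizer {A : Type*} [AddCommMonoid A] [Fintype K.U]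
    [Fintype (centralizer ({K.t} : Set G))] (F : G → A) :
    ∑ c : centralizer ({K.t} : Set G), F c =
      ∑ a : K.U, (F a + F (a * K.t) + F (a * K.u) + F (a * (K.t * K.u))) := by
  rw [← (Equiv.ofBijective _ K.split_bijective).sum_comp, Fintype.sum_prod_type]
  refine Finset.sum_congr rfl fun a _ => ?_
  simp [Fintype.sum_prod_type, Fintype.univ_bool, Equiv.ofBijective_apply, split, rep]
  abel

section Rotation

variable {g : G} (hgt : g * K.t * g⁻¹ = K.u) (hgu : g * K.u * g⁻¹ = K.t * K.u)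
include hgt hgu

theorem conj_g_mem {x : G} (hx : x ∈ K.D) : g * x * g⁻¹ ∈ K.D := by
  obtain ⟨ho, h1, h2⟩ := K.mem_D.1 hx
  have e1 : Commute (g * x * g⁻¹) K.u := hgt ▸ h1.map (MulAut.conj g).toMonoidHom
  have e2 : Commute (g * x * g⁻¹) (K.t * K.u) := hgu ▸ h2.map (MulAut.conj g).toMonoidHom
  refine K.mem_D.2 ⟨by rwa [orderOf_conj], ?_, e1⟩
  have h3 : Commute (g * x * g⁻¹) (K.t * K.u * K.u) := e2.mul_right e1
  rwa [mul_assoc K.t, involution_sq K.hu, mul_one] at h3

theorem conj_g_S {s : G} (hs : s ∈ (K.S : Subgroup G)) : g * s * g⁻¹ ∈ (K.S : Subgroup G) := by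
  rcases K.S_cases hs with rfl | rfl | rfl | rfl
  · simp
  · rw [hgt]; exact K.huS
  · rw [hgu]; exact mul_mem K.htS K.huS
  · rw [show g * (K.t * K.u) * g⁻¹ = g * K.t * g⁻¹ * (g * K.u * g⁻¹) by group, hgt, hgu]
    exact mul_mem K.huS (mul_mem K.htS K.huS)

/-- Fusion in `D` is controlled by `D` and the rotation. -/
theorem fusion {x k : G} (hx : x ∈ K.D) (hk : k ∈ K.D) (h : IsConj x k) :
    ∃ i : ℕ, ∃ d ∈ K.D, k = g ^ i * (d * x * d⁻¹) * (g ^ i)⁻¹ := by
  classical
  have : Fact (Nat.Prime 2) := ⟨Nat.prime_two⟩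
  obtain ⟨c, hc⟩ := isConj_iff.1 h
  set H := centralizer ({k} : Set G)
  have hle : (K.S : Subgroup G) ≤ H := fun s hs =>
    mem_centralizer_singleton_iff.2 (K.comm_S hk hs).eq.symm
  have hle' : ((c • K.S : Sylow 2 G) : Subgroup G) ≤ H := by
    rw [Sylow.coe_subgroup_smul]
    rintro _ ⟨s, hs, rfl⟩
    refine mem_centralizer_singleton_iff.2 ?_
    have := ((K.comm_S hx hs).map (MulAut.conj c).toMonoidHom).eq
    simp only [MulEquiv.coe_toMonoidHom, MulAut.conj_apply, hc] at this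
    simpa using this.symm
  obtain ⟨h', hh'⟩ := MulAction.exists_smul_eq H ((c • K.S).subtype hle') (K.S.subtype hle)
  set n := (h' : G) * c
  have hn : n * x * n⁻¹ = k := by
    rw [show n * x * n⁻¹ = (h' : G) * (c * x * c⁻¹) * (h' : G)⁻¹ by simp only [n]; group, hc,
      (show Commute (h' : G) k from mem_centralizer_singleton_iff.1 h'.2).eq, mul_inv_cancel_right]
  have hnS : ∀ s ∈ (K.S : Subgroup G), n * s * n⁻¹ ∈ (K.S : Subgroup G) := by
    intro s hs
    have h1 : c * s * c⁻¹ ∈ ((c • K.S : Sylow 2 G) : Subgroup G) := by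
      rw [Sylow.coe_subgroup_smul]
      exact ⟨s, hs, by simp⟩
    have h2 : h' * (⟨c * s * c⁻¹, hle' h1⟩ : H) * h'⁻¹ ∈
        ((K.S.subtype hle : Sylow 2 H) : Subgroup H) := by
      rw [← hh', Sylow.coe_subgroup_smul]
      exact ⟨⟨c * s * c⁻¹, hle' h1⟩, h1, rfl⟩
    rw [Sylow.coe_subtype, mem_subgroupOf] at h2
    simpa [n, mul_assoc] using h2
  obtain ⟨i, hi⟩ : ∃ i : ℕ, n * K.t * n⁻¹ = g ^ i * K.t * (g ^ i)⁻¹ := by
    rcases K.S_cases (hnS _ K.htS) with e | e | e | e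
    · exact absurd (conj_eq_one_iff.1 e) (involution_ne_one K.ht)
    · exact ⟨0, by simpa using e⟩
    · exact ⟨1, by rw [pow_one, hgt, e]⟩
    · refine ⟨2, ?_⟩
      rw [e, pow_two, show g * g * K.t * (g * g)⁻¹ = g * (g * K.t * g⁻¹) * g⁻¹ by group, hgt, hgu]
  set m := (g ^ i)⁻¹ * n with hm
  have hmt : Commute m K.t := by
    refine mul_inv_eq_iff_eq_mul.1 ?_
    rw [hm, show (g ^ i)⁻¹ * n * K.t * ((g ^ i)⁻¹ * n)⁻¹ =
      (g ^ i)⁻¹ * (n * K.t * n⁻¹) * g ^ i by group, hi]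
    group
  obtain ⟨a, ha, p, q, hmaq⟩ := K.exists_split hmt
  have hgpow : ∀ j : ℕ, ∀ s ∈ (K.S : Subgroup G), g ^ j * s * (g ^ j)⁻¹ ∈ (K.S : Subgroup G) := by
    intro j
    induction j with
    | zero => intro s hs; simpa using hs
    | succ j ih =>
      intro s hs
      rw [pow_succ', show g * g ^ j * s * (g * g ^ j)⁻¹ = g * (g ^ j * s * (g ^ j)⁻¹) * g⁻¹ by group]
      exact K.conj_g_S hgt hgu (ih s hs)
  have hau : a * K.u * a⁻¹ ∈ (K.S : Subgroup G) := by
    have hginv : ∀ s ∈ (K.S : Subgroup G), (g ^ i)⁻¹ * s * g ^ i ∈ (K.S : Subgroup G) := by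
      intro s hs
      have hinv : (g ^ i)⁻¹ = g ^ ((orderOf g - 1) * i) := by
        rw [inv_eq_iff_mul_eq_one, ← pow_add,
          show i + (orderOf g - 1) * i = orderOf g * i by
            have := orderOf_pos g; cases h : orderOf g <;> simp_all [Nat.succ_mul, add_comm],
          pow_mul, pow_orderOf_eq_one, one_pow]
      have := hgpow ((orderOf g - 1) * i) s hs
      rwa [← hinv, inv_inv] at this
    have h1 : m * K.u * m⁻¹ ∈ (K.S : Subgroup G) := by
      rw [hm, show (g ^ i)⁻¹ * n * K.u * ((g ^ i)⁻¹ * n)⁻¹ = (g ^ i)⁻¹ * (n * K.u * n⁻¹) * g ^ i by group]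
      exact hginv _ (hnS _ K.huS)
    have hru : K.rep p q * K.u = K.u * K.rep p q :=
      CfsgLib.Blocks.commute_of_mem_klein K.S K.four (K.rep_mem p q) K.huS
    rwa [hmaq, show a * K.rep p q * K.u * (a * K.rep p q)⁻¹ = a * (K.rep p q * K.u * (K.rep p q)⁻¹) * a⁻¹
      by group, hru, mul_inv_cancel_right] at h1
  have haD : a ∈ K.D := by
    refine ⟨ha, mem_centralizer_singleton_iff.2 (mul_inv_eq_iff_eq_mul.1 ?_)⟩
    have h1 : a * (K.u * a⁻¹ * K.u⁻¹) = 1 := by
      refine K.eq_one_of_mem ?_ (mul_mem ha (K.conj_u_mem (inv_mem ha)))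
      rw [show a * (K.u * a⁻¹ * K.u⁻¹) = a * K.u * a⁻¹ * K.u⁻¹ by group]
      exact mul_mem hau (inv_mem K.huS)
    calc a * K.u * a⁻¹ = a * (K.u * a⁻¹ * K.u⁻¹) * K.u := by group
      _ = K.u := by rw [h1, one_mul]
  refine ⟨i, a, haD, ?_⟩
  rw [← hn, show n = g ^ i * m by rw [hm]; group, hmaq]
  have hc' : K.rep p q * x = x * K.rep p q := (K.comm_S hx (K.rep_mem p q)).eq.symm
  rw [show g ^ i * (a * K.rep p q) * x * (g ^ i * (a * K.rep p q))⁻¹ =
    g ^ i * (a * (K.rep p q * x * (K.rep p q)⁻¹) * a⁻¹) * (g ^ i)⁻¹ by group, hc', mul_inv_cancel_right]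

end Rotation

end Kl

end CfsgLib.GW.Two.Lin
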